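import Groth.Agent.Formal27.LimQuot

/-!
Towers with `0 → G n → G (n+1) → G 0 → 0`: they are completions of torsion-free modules.
-/

set_option autoImplicit false

universe u

open CategoryTheory CategoryTheory.Limits AlgebraicGeometry Opposite TopologicalSpace

noncomputable section

namespace Groth.Agent.Formal27

variable {A : Type u} [CommRing A] {X : Scheme.{u}} [X.Over (Spec (CommRingCat.of A))]

/-- The hypothesis. -/
def IsStep (f : A) (G : ℕᵒᵖ ⥤ X.Modules) : Prop :=
  ∀ n : ℕ, ∃ i : G.obj (op n) ⟶ G.obj (op (n + 1)), Mono i ∧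
    G.map (homOfLE (Nat.le_succ n)).op ≫ i = Formal.smulMod A (G.obj (op (n + 1))) f ∧
    ∃ w : i ≫ G.map (homOfLE (Nat.zero_le (n + 1))).op = 0,
      (ShortComplex.mk i (G.map (homOfLE (Nat.zero_le (n + 1))).op) w).ShortExact

variable {f : A} {G : ℕᵒᵖ ⥤ X.Modules} (h1 : IsStep f G)

include h1 in
theorem smul_pow_eq_zero : ∀ n, Formal.smulMod A (G.obj (op n)) (f ^ (n + 1)) = 0 := by
  intro n
  induction n with
  | zero =>
    obtain ⟨i, -, hi, w, hse⟩ := h1 0
    haveI : Epi (tr G 0) := hse.epi_g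
    rw [pow_one, ← cancel_epi (tr G 0), smulMod_comp, ← hi, Category.assoc]
    exact (congrArg _ w).trans (by simp)
  | succ n ih =>
    obtain ⟨i, -, hi, -, -⟩ := h1 n
    rw [pow_succ, smulMod_mul, ← hi, Category.assoc, smulMod_comp, ih, zero_comp, comp_zero]

include h1 in
theorem smul_eq_zero_of_mem {n : ℕ} {a : A} (ha : a ∈ Ideal.span ({f} : Set A) ^ (n + 1)) :
    Formal.smulMod A (G.obj (op n)) a = 0 := by
  rw [Ideal.span_singleton_pow] at ha
  obtain ⟨c, rfl⟩ := Ideal.mem_span_singleton'.mp ha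
  rw [smulMod_mul, smul_pow_eq_zero h1, zero_comp]

include h1 in
theorem epi_tr' : ∀ n, Epi (tr G n) := by
  intro n
  induction n with
  | zero =>
    obtain ⟨i, -, -, w, hse⟩ := h1 0
    exact hse.epi_g
  | succ n ih =>
    obtain ⟨i, -, hi, w, hse⟩ := h1 n
    obtain ⟨i', -, -, w', hse'⟩ := h1 (n + 1)
    haveI := ih
    let c := cokernel.π (tr G (n + 1))
    have hq : cokernel.π (Formal.smulMod A (cokernel (tr G (n + 1))) f) = 0 := by
      let q := cokernel.π (Formal.smulMod A (cokernel (tr G (n + 1))) f)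
      haveI : Epi (G.map (homOfLE (Nat.zero_le (n + 1))).op) := hse.epi_g
      have hz : i ≫ c ≫ q = 0 := by
        rw [← cancel_epi (tr G n), ← Category.assoc, show tr G n ≫ i = _ from hi,
          ← smulMod_comp_assoc, cokernel.condition, comp_zero, comp_zero]
      obtain ⟨v, hv⟩ := CokernelCofork.IsColimit.desc' hse.gIsCokernel (c ≫ q) hz
      have hv' : G.map (homOfLE (Nat.zero_le (n + 1))).op ≫ v = c ≫ q := hv
      haveI : Epi (G.map (homOfLE (Nat.zero_le (n + 1 + 1))).op) := hse'.epi_g
      have hv0 : v = 0 := by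
        rw [← cancel_epi (G.map (homOfLE (Nat.zero_le (n + 1 + 1))).op), comp_zero,
          show (homOfLE (Nat.zero_le (n + 1 + 1))).op = (homOfLE (Nat.le_succ (n + 1))).op ≫
            (homOfLE (Nat.zero_le (n + 1))).op from rfl, G.map_comp, Category.assoc, hv']
        change tr G (n + 1) ≫ c ≫ q = 0
        rw [cokernel.condition_assoc, zero_comp]
      rw [← cancel_epi c, comp_zero]
      change c ≫ q = 0
      rw [← hv', hv0, comp_zero]
    haveI hepi : Epi (Formal.smulMod A (cokernel (tr G (n + 1))) f) :=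
      Preadditive.epi_of_cokernel_zero hq
    have hepi' : ∀ k, Epi (Formal.smulMod A (cokernel (tr G (n + 1))) (f ^ k)) := by
      intro k
      induction k with
      | zero => rw [pow_zero, smulMod_one]; infer_instance
      | succ k ihk => rw [pow_succ, smulMod_mul]; exact epi_comp _ _
    have hzero : Formal.smulMod A (cokernel (tr G (n + 1))) (f ^ (n + 1 + 1)) = 0 := by
      rw [← cancel_epi c, comp_zero, smulMod_comp, smul_pow_eq_zero h1, zero_comp]
    refine Preadditive.epi_of_cokernel_zero ?_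
    haveI := hepi' (n + 1 + 1)
    have hc : 𝟙 (cokernel (tr G (n + 1))) = 0 := by
      rw [← cancel_epi (Formal.smulMod A (cokernel (tr G (n + 1))) (f ^ (n + 1 + 1))), hzero, zero_comp, zero_comp]
    change c = 0
    rw [← Category.comp_id c, hc, comp_zero]

include h1 in
theorem exact_step : ∀ n (hz : Formal.smulMod A (G.obj (op (n + 1))) (f ^ (n + 1)) ≫ tr G n = 0),
    (ShortComplex.mk (Formal.smulMod A (G.obj (op (n + 1))) (f ^ (n + 1))) (tr G n) hz).Exact := by
  intro n
  induction n with
  | zero =>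
    intro hz
    obtain ⟨i, -, hi, w, hse⟩ := h1 0
    rw [ShortComplex.exact_iff_exact_up_to_refinements]
    intro T x hx
    obtain ⟨T', π, _, y, hy⟩ := hse.exact.exact_up_to_refinements x hx
    haveI := epi_tr' h1 0
    obtain ⟨T'', π', _, y', hy'⟩ := surjective_up_to_refinements_of_epi (tr G 0) y
    refine ⟨T'', π' ≫ π, inferInstance, y', ?_⟩
    dsimp only at hy hy' ⊢
    rw [Category.assoc, hy, ← Category.assoc, hy', Category.assoc, show tr G 0 ≫ i = _ from hi, pow_one]
  | succ n ih =>
    intro hz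
    obtain ⟨i, hmono, hi, w, hse⟩ := h1 n
    obtain ⟨i', -, hi', w', hse'⟩ := h1 (n + 1)
    haveI := epi_tr' h1 (n + 1)
    haveI := epi_tr' h1 n
    rw [ShortComplex.exact_iff_exact_up_to_refinements]
    intro T x hx
    dsimp only at x hx
    obtain ⟨T', π, _, y, hy⟩ := hse'.exact.exact_up_to_refinements x (by
      dsimp only
      have hcomp : tr G (n + 1) ≫ G.map (homOfLE (Nat.zero_le (n + 1))).op =
          G.map (homOfLE (Nat.zero_le (n + 1 + 1))).op := by
        rw [tr, ← G.map_comp]
        rfl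
      exact (congrArg (x ≫ ·) hcomp.symm).trans (by rw [← Category.assoc, hx, zero_comp]))
    dsimp only at y hy
    have hit : i' ≫ tr G (n + 1) = Formal.smulMod A (G.obj (op (n + 1))) f := by
      rw [← cancel_epi (tr G (n + 1)), ← Category.assoc, show tr G (n + 1) ≫ i' = _ from hi', smulMod_comp]
    have hy0 : y ≫ tr G n = 0 := by
      rw [← cancel_mono i, Category.assoc, show tr G n ≫ i = _ from hi, zero_comp, ← hit, ← Category.assoc,
        ← hy, Category.assoc, hx, comp_zero]
    have hz' : Formal.smulMod A (G.obj (op (n + 1))) (f ^ (n + 1)) ≫ tr G n = 0 := by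
      rw [← smulMod_comp, smul_pow_eq_zero h1, comp_zero]
    obtain ⟨T'', π', _, z, hzz⟩ := (ih hz').exact_up_to_refinements y hy0
    dsimp only at z hzz
    obtain ⟨T₃, π'', _, z', hz''⟩ := surjective_up_to_refinements_of_epi (tr G (n + 1)) z
    refine ⟨T₃, π'' ≫ π' ≫ π, inferInstance, z', ?_⟩
    dsimp only at hz'' ⊢
    rw [Category.assoc, Category.assoc, hy, reassoc_of% hzz, reassoc_of% hz'', pow_succ' f (n + 1), smulMod_mul,
      smulMod_comp_assoc, show tr G (n + 1) ≫ i' = _ from hi']

include h1 in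
theorem isQCohFormal (hqc : ∀ n : ℕᵒᵖ, Coh.IsQCoh (G.obj n)) :
    Formal2.IsQCohFormal (Ideal.span ({f} : Set A)) G := by
  refine ⟨fun n => hqc (op n), fun n a ha => smul_eq_zero_of_mem h1 ha, fun n => ?_⟩
  have h0 : ∀ a ∈ Ideal.span ({f} : Set A) ^ (n + 1), Formal.smulMod A _ a ≫ tr G n = 0 := fun a ha => by
    rw [← smulMod_comp, smul_eq_zero_of_mem h1 ha, comp_zero]
  refine ⟨smulFamily_comp_eq_zero _ h0, ?_⟩
  haveI := epi_tr' h1 n
  have hex := exact_step h1 n (h0 _ (Ideal.pow_mem_pow (Ideal.mem_span_singleton_self f) _))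
  obtain ⟨v, hv⟩ := CokernelCofork.IsColimit.desc' hex.gIsCokernel
    (Formal.modPowπ (Ideal.span {f}) (n + 1) (G.obj (op (n + 1))))
    (smulMod_pow_modPowπ f _ (n + 1))
  exact isIso_desc_of_factor _ (tr G n) _ v hv

include h1 in
theorem mono_smul_limit : Mono (Formal.smulMod A (limit G) f) :=
  QC70.mono_of_app_injective _ fun V => (injective_iff_map_eq_zero _).2 fun s hs => lim_ext G fun k => by
    obtain ⟨i, hmono, hi, -, -⟩ := h1 k
    refine (QC70.app_injective_of_mono i V ?_).trans (map_zero _).symm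
    rw [← π_tr_app G k s, map_zero]
    change (tr G k ≫ i).app V ((limit.π G (op (k + 1))).app V s) = 0
    rw [show tr G k ≫ i = _ from hi]
    change (limit.π G (op (k + 1)) ≫ Formal.smulMod A _ f).app V s = 0
    rw [smulMod_comp]
    change (limit.π G (op (k + 1))).app V ((Formal.smulMod A (limit G) f).app V s) = 0
    rw [hs, map_zero]

/-- A system whose comparison maps are isomorphisms is a completion. -/
theorem completion_iso {I : Ideal A} (M : X.Modules) (p : ∀ n : ℕ, M ⟶ G.obj (op n))
    (hp : ∀ n, p (n + 1) ≫ tr G n = p n)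
    (h : ∀ n, ∃ hz : Formal.smulFamily (I ^ (n + 1)) M ≫ p n = 0, IsIso (cokernel.desc _ _ hz)) :
    Nonempty (Formal.completion I M ≅ G) := by
  let e : ∀ n, Formal.modPow I (n + 1) M ⟶ G.obj (op n) := fun n => cokernel.desc _ (p n) (h n).1
  have he : ∀ n, IsIso (e n) := fun n => (h n).2
  refine ⟨NatIso.ofComponents (fun n => @asIso _ _ _ _ (e n.unop) (he n.unop)) ?_⟩
  rintro ⟨m⟩ ⟨n⟩ φ
  obtain ⟨hle⟩ : Nonempty (n ≤ m) := ⟨leOfHom φ.unop⟩
  rw [show φ = (homOfLE hle).op from Subsingleton.elim _ _]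
  clear φ
  induction m, hle using Nat.le_induction with
  | base =>
    rw [show (homOfLE (le_refl n)).op = 𝟙 (op n) from rfl, CategoryTheory.Functor.map_id,
      CategoryTheory.Functor.map_id, Category.id_comp, Category.comp_id]
  | succ m hle ih =>
    rw [show (homOfLE (hle.trans (Nat.le_succ m))).op = (homOfLE (Nat.le_succ m)).op ≫ (homOfLE hle).op from rfl,
      Functor.map_comp, Functor.map_comp, Category.assoc, ih, ← Category.assoc, ← Category.assoc]
    refine congrArg (· ≫ G.map (homOfLE hle).op) ?_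
    have key : Formal.modPowTrans I (m + 1) M ≫ e m = e (m + 1) ≫ tr G m := by
      rw [← cancel_epi (Formal.modPowπ I (m + 1 + 1) M), ← Category.assoc, Formal.modPowπ_trans]
      change cokernel.π _ ≫ cokernel.desc _ _ _ = cokernel.π _ ≫ cokernel.desc _ _ _ ≫ _
      rw [cokernel.π_desc, cokernel.π_desc_assoc, hp]
    exact (congrArg (· ≫ e m) (Functor.ofOpSequence_map_homOfLE_succ _ m)).trans key

end Groth.Agent.Formal27
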