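import Groth.Agent.Formal27.SmulMod

/-!
Pullback and pushforward of multiplication by scalars.
-/

set_option autoImplicit false

universe u

open CategoryTheory CategoryTheory.Limits AlgebraicGeometry Opposite

namespace Groth.Agent.Formal27

variable {A : Type u} [CommRing A]

/-- The criterion for a cokernel. -/
theorem isIso_desc_of_factor {C : Type*} [Category C] [HasZeroMorphisms C] [HasCokernels C]
    {P M N : C} (s : P ⟶ M) (t : M ⟶ N) (h : s ≫ t = 0) [Epi t] (v : N ⟶ cokernel s)
    (hv : t ≫ v = cokernel.π s) : IsIso (cokernel.desc s t h) :=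
  ⟨v, by rw [← cancel_epi (cokernel.π s), cokernel.π_desc_assoc, hv, Category.comp_id],
    by rw [← cancel_epi t, ← Category.assoc, hv, cokernel.π_desc, Category.comp_id]⟩

variable {X Y : Scheme.{u}} [X.Over (Spec (CommRingCat.of A))] [Y.Over (Spec (CommRingCat.of A))]
  (f : X ⟶ Y) (hf : f ≫ (Y ↘ Spec (CommRingCat.of A)) = X ↘ Spec (CommRingCat.of A))

include hf in
theorem pushforward_map_smulMod (N : X.Modules) (a : A) :
    (Scheme.Modules.pushforward f).map (Formal.smulMod A N a) =
      Formal.smulMod A ((Scheme.Modules.pushforward f).obj N) a := by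
  ext U m
  have h : Coh.resTop X (op (f ⁻¹ᵁ U)) (Coh.toGlobal (X ↘ Spec (CommRingCat.of A)) a) =
      f.app U (Coh.resTop Y (op U) (Coh.toGlobal (Y ↘ Spec (CommRingCat.of A)) a)) := by
    rw [← hf]
    change (X.presheaf.map (homOfLE le_top).op).hom (Coh.toGlobal _ a) = _
    simp only [Coh.toGlobal]
    change _ = ((Y.presheaf.map (homOfLE (le_top : U ≤ ⊤)).op) ≫ f.app U) _
    rw [f.naturality]
    simp only [Scheme.Hom.comp_appTop, RingHom.coe_comp, Function.comp_apply, CommRingCat.hom_comp]
    rfl
  exact (congrArg (fun r : Γ(X, f ⁻¹ᵁ U) => r • (show Γ(N, f ⁻¹ᵁ U) from m)) h).trans rfl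

include hf in
theorem pullback_map_smulMod (M : Y.Modules) (a : A) :
    (Scheme.Modules.pullback f).map (Formal.smulMod A M a) =
      Formal.smulMod A ((Scheme.Modules.pullback f).obj M) a := by
  apply ((Scheme.Modules.pullbackPushforwardAdjunction f).homEquiv _ _).injective
  rw [Adjunction.homEquiv_unit, Adjunction.homEquiv_unit, pushforward_map_smulMod f hf]
  exact (Adjunction.unit_naturality _ _).trans (smulMod_comp _ a).symm

include hf in
theorem isCohFormal_pullback {I : Ideal A} (G : ℕᵒᵖ ⥤ Y.Modules) (hG : Formal.IsCohFormal I G)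
    (hcoh : ∀ n, Coh.IsCoh ((Scheme.Modules.pullback f).obj (G.obj (op n)))) :
    Formal.IsCohFormal I (G ⋙ Scheme.Modules.pullback f) := by
  refine ⟨hcoh, fun n a ha => ?_, fun n => ?_⟩
  · change Formal.smulMod A ((Scheme.Modules.pullback f).obj (G.obj (op n))) a = 0
    rw [← pullback_map_smulMod f hf, hG.2.1 n a ha, Functor.map_zero]
  · obtain ⟨h, hiso⟩ := hG.2.2 n
    let t := G.map (homOfLE (Nat.le_succ n)).op
    haveI : Epi t := by
      rw [show t = cokernel.π _ ≫ cokernel.desc _ _ h from (cokernel.π_desc _ _ _).symm]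
      infer_instance
    have hz : ∀ a ∈ I ^ (n + 1), Formal.smulMod A (G.obj (op (n + 1))) a ≫ t = 0 := fun a ha => by
      rw [← smulMod_comp, hG.2.1 n a ha, comp_zero]
    have h' : Formal.smulFamily (I ^ (n + 1)) ((Scheme.Modules.pullback f).obj (G.obj (op (n + 1)))) ≫
        (Scheme.Modules.pullback f).map t = 0 :=
      smulFamily_comp_eq_zero _ fun a ha => by
        rw [← pullback_map_smulMod f hf, ← Functor.map_comp, hz a ha, Functor.map_zero]
    refine ⟨h', ?_⟩
    haveI : Epi ((Scheme.Modules.pullback f).map t) := inferInstance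
    let π' := cokernel.π (Formal.smulFamily (I ^ (n + 1))
      ((Scheme.Modules.pullback f).obj (G.obj (op (n + 1)))))
    let adj := Scheme.Modules.pullbackPushforwardAdjunction f
    have hπ : Formal.smulFamily (I ^ (n + 1)) (G.obj (op (n + 1))) ≫ adj.homEquiv _ _ π' = 0 :=
      smulFamily_comp_eq_zero _ fun a ha => by
        rw [← Adjunction.homEquiv_naturality_left, pullback_map_smulMod f hf]
        have : Formal.smulMod A ((Scheme.Modules.pullback f).obj (G.obj (op (n + 1)))) a ≫ π' = 0 :=
          smulMod_modPowπ I (n + 1) _ ha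
        rw [this, Adjunction.homEquiv_unit, Functor.map_zero, comp_zero]
    let w := inv (cokernel.desc _ _ h) ≫ cokernel.desc _ _ hπ
    have hw : t ≫ w = adj.homEquiv _ _ π' := by
      rw [show t = cokernel.π _ ≫ cokernel.desc _ _ h from (cokernel.π_desc _ _ _).symm, Category.assoc,
        IsIso.hom_inv_id_assoc, cokernel.π_desc]
    refine isIso_desc_of_factor _ ((Scheme.Modules.pullback f).map t) h' ((adj.homEquiv _ _).symm w) ?_
    rw [← Adjunction.homEquiv_naturality_left_symm, hw, Equiv.symm_apply_apply]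

end Groth.Agent.Formal27
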