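import Mathlib.RingTheory.Filtration
import Mathlib.RingTheory.Finiteness.Basic

/-!
Artin–Rees statements for the `J^c`-torsion of a finite module.
-/

set_option autoImplicit false

universe u v

namespace Groth.Agent.Formal27

variable {R : Type u} [CommRing R] [IsNoetherianRing R] {M : Type v} [AddCommGroup M] [Module R M]
  [Module.Finite R M]

/-- Torsion modulo high powers lifts to torsion; torsion meets high powers trivially. -/
theorem exists_artinRees_torsion (J : Ideal R) (c : ℕ) :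
    ∃ k : ℕ, (∀ (n : ℕ) (x : M), (∀ b ∈ J ^ c, b • x ∈ J ^ (n + k) • (⊤ : Submodule R M)) →
        ∃ t : M, (∀ b ∈ J ^ c, b • t = 0) ∧ x - t ∈ J ^ n • (⊤ : Submodule R M)) ∧
      ∀ x ∈ J ^ k • (⊤ : Submodule R M), (∀ b ∈ J ^ c, b • x = 0) → x = 0 := by
  classical
  obtain ⟨r, b, hb⟩ := (Submodule.fg_iff_exists_fin_generating_family).mp (IsNoetherian.noetherian (J ^ c))
  have hbmem : ∀ i, b i ∈ J ^ c := fun i => hb ▸ Submodule.subset_span (Set.mem_range_self i)
  let Φ : M →ₗ[R] (Fin r → M) := LinearMap.pi fun i => LinearMap.lsmul R M (b i)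
  have hker : ∀ x, Φ x = 0 → ∀ a ∈ J ^ c, a • x = 0 := fun x hx a ha => by
    obtain ⟨l, rfl⟩ := (Submodule.mem_span_range_iff_exists_fun R).mp (hb ▸ ha)
    rw [Finset.sum_smul]
    exact Finset.sum_eq_zero fun i _ => by
      rw [smul_assoc, show b i • x = 0 from congrFun hx i, smul_zero]
  obtain ⟨k₁, hk₁⟩ := Ideal.exists_pow_inf_eq_pow_smul J (LinearMap.range Φ)
  obtain ⟨k₂, hk₂⟩ := Ideal.exists_pow_inf_eq_pow_smul J (LinearMap.ker Φ)
  refine ⟨k₁ + k₂ + c, fun n x hx => ?_, fun x hx hx' => ?_⟩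
  · have hmem : Φ x ∈ J ^ (n + (k₁ + k₂ + c)) • (⊤ : Submodule R (Fin r → M)) ⊓ LinearMap.range Φ := by
      refine ⟨?_, LinearMap.mem_range_self Φ x⟩
      rw [show Φ x = ∑ i, LinearMap.single R (fun _ => M) i (b i • x) from
        (Finset.univ_sum_single (Φ x)).symm]
      refine Submodule.sum_mem _ fun i _ => ?_
      have := Submodule.mem_map_of_mem (f := LinearMap.single R (fun _ => M) i) (hx (b i) (hbmem i))
      rw [Submodule.map_smul''] at this
      exact Submodule.smul_mono le_rfl le_top this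
    rw [hk₁ _ (by omega)] at hmem
    obtain ⟨m, hm, hme⟩ : Φ x ∈ Submodule.map Φ (J ^ n • ⊤) := by
      rw [Submodule.map_smul'', Submodule.map_top]
      exact Submodule.smul_mono (Ideal.pow_le_pow_right (by omega)) inf_le_right hmem
    exact ⟨x - m, hker _ (by rw [map_sub, hme, sub_self]), by rwa [sub_sub_cancel]⟩
  · have hxker : x ∈ LinearMap.ker Φ := LinearMap.mem_ker.mpr (funext fun i => hx' _ (hbmem i))
    have hmem : x ∈ J ^ (k₁ + k₂ + c) • (⊤ : Submodule R M) ⊓ LinearMap.ker Φ := ⟨hx, hxker⟩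
    rw [hk₂ _ (by omega)] at hmem
    have h0 : J ^ c • LinearMap.ker Φ = ⊥ := eq_bot_iff.mpr (Submodule.smul_le.mpr fun a ha y hy =>
      (Submodule.mem_bot R).mpr (hker y (LinearMap.mem_ker.mp hy) a ha))
    exact (Submodule.mem_bot R).mp (h0 ▸ Submodule.smul_mono (Ideal.pow_le_pow_right (by omega)) inf_le_right hmem)

end Groth.Agent.Formal27
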