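import Groth.Agent.Formal27.Pullback

/-!
Formal modules killed by a fixed power of the ideal.
-/

set_option autoImplicit false

universe u

open CategoryTheory CategoryTheory.Limits AlgebraicGeometry Opposite

namespace Groth.Agent.Formal27

variable {A : Type u} [CommRing A] {X : Scheme.{u}} [X.Over (Spec (CommRingCat.of A))]
variable {I : Ideal A} {F : ℕᵒᵖ ⥤ X.Modules} (hF : Formal.IsCohFormal I F)

/-- The transition map `F m ⟶ F n`. -/
abbrev sysMap (F : ℕᵒᵖ ⥤ X.Modules) {n m : ℕ} (h : n ≤ m) : F.obj (op m) ⟶ F.obj (op n) :=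
  F.map (homOfLE h).op

theorem sysMap_comp (F : ℕᵒᵖ ⥤ X.Modules) {l n m : ℕ} (h : l ≤ n) (h' : n ≤ m) :
    sysMap F h' ≫ sysMap F h = sysMap F (h.trans h') := by
  rw [sysMap, sysMap, ← F.map_comp]
  rfl

theorem sysMap_self (F : ℕᵒᵖ ⥤ X.Modules) (n : ℕ) : sysMap F (le_refl n) = 𝟙 _ := by
  rw [sysMap, ← F.map_id]
  rfl

include hF in
theorem epi_step (n : ℕ) : Epi (sysMap F (Nat.le_succ n)) := by
  obtain ⟨h, hiso⟩ := hF.2.2 n
  rw [show sysMap F (Nat.le_succ n) = cokernel.π _ ≫ cokernel.desc _ _ h from (cokernel.π_desc _ _ _).symm]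
  infer_instance

include hF in
theorem epi_sysMap {n m : ℕ} (h : n ≤ m) : Epi (sysMap F h) := by
  induction m, h using Nat.le_induction with
  | base => rw [sysMap_self]; infer_instance
  | succ m h ih =>
    haveI := epi_step hF m
    rw [← sysMap_comp F h (Nat.le_succ m)]
    exact epi_comp _ _

include hF in
theorem exists_factor {n m : ℕ} (h : n ≤ m) {Z : X.Modules} (g : F.obj (op m) ⟶ Z)
    (hg : ∀ a ∈ I ^ (n + 1), Formal.smulMod A _ a ≫ g = 0) : ∃ v, sysMap F h ≫ v = g := by
  induction m, h using Nat.le_induction with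
  | base => exact ⟨g, by rw [sysMap_self, Category.id_comp]⟩
  | succ m h ih =>
    obtain ⟨hz, hiso⟩ := hF.2.2 m
    have hg' : Formal.smulFamily (I ^ (m + 1)) (F.obj (op (m + 1))) ≫ g = 0 :=
      smulFamily_comp_eq_zero _ fun a ha => hg a (Ideal.pow_le_pow_right (by omega) ha)
    let g' := inv (cokernel.desc _ _ hz) ≫ cokernel.desc _ _ hg'
    have hfac : sysMap F (Nat.le_succ m) ≫ g' = g := by
      rw [show sysMap F (Nat.le_succ m) = cokernel.π _ ≫ cokernel.desc _ _ hz from (cokernel.π_desc _ _ _).symm,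
        Category.assoc, IsIso.hom_inv_id_assoc, cokernel.π_desc]
    haveI := epi_step hF m
    obtain ⟨v, hv⟩ := ih g' fun a ha => by
      rw [← cancel_epi (sysMap F (Nat.le_succ m)), comp_zero, ← Category.assoc, smulMod_comp, Category.assoc,
        hfac]
      exact hg a ha
    exact ⟨v, by rw [← sysMap_comp F h (Nat.le_succ m), Category.assoc, hv, hfac]⟩

include hF in
/-- If all terms are killed by `I^c`, the transition maps are isomorphisms from step `c` on. -/
theorem isIso_sysMap {c : ℕ} (hc : ∀ n, Formal.KilledBy (I ^ c) (F.obj (op n))) {m : ℕ} (h : c ≤ m) :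
    IsIso (sysMap F h) := by
  haveI := epi_sysMap hF h
  obtain ⟨v, hv⟩ := exists_factor hF h (𝟙 _) fun a ha => by
    rw [Category.comp_id, hc m a (Ideal.pow_le_pow_right (Nat.le_succ c) ha)]
  exact ⟨v, hv, by rw [← cancel_epi (sysMap F h), ← Category.assoc, hv, Category.id_comp, Category.comp_id]⟩

include hF in
theorem exists_algebraization {c : ℕ} (hc : ∀ n, Formal.KilledBy (I ^ c) (F.obj (op n))) :
    Nonempty (Formal.completion I (F.obj (op c)) ≅ F) := by
  have hiso : ∀ n, IsIso (sysMap F (le_max_right n c)) := fun n => isIso_sysMap hF hc (le_max_right n c)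
  let p : ∀ n, F.obj (op c) ⟶ F.obj (op n) := fun n =>
    haveI := hiso n
    inv (sysMap F (le_max_right n c)) ≫ sysMap F (le_max_left n c)
  have hp : ∀ n m (h : n ≤ m) (h' : c ≤ m), sysMap F h' ≫ p n = sysMap F h := fun n m h h' => by
    haveI := hiso n
    have hm : max n c ≤ m := max_le h h'
    simp only [p]
    rw [← sysMap_comp F (le_max_right n c) hm, Category.assoc, IsIso.hom_inv_id_assoc, sysMap_comp]
  have hp0 : ∀ n, ∀ a ∈ I ^ (n + 1), Formal.smulMod A _ a ≫ p n = 0 := fun n a ha => by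
    rw [← smulMod_comp, hF.2.1 n a ha, comp_zero]
  let e : ∀ n, Formal.modPow I (n + 1) (F.obj (op c)) ⟶ F.obj (op n) := fun n =>
    cokernel.desc _ (p n) (smulFamily_comp_eq_zero _ (hp0 n))
  have he : ∀ n, IsIso (e n) := fun n => by
    haveI := hiso n
    haveI := epi_sysMap hF (le_max_left n c)
    obtain ⟨v, hv⟩ := exists_factor hF (le_max_left n c)
      (sysMap F (le_max_right n c) ≫ Formal.modPowπ I (n + 1) (F.obj (op c))) fun a ha => by
      rw [← Category.assoc, ← smulMod_comp, Category.assoc, smulMod_modPowπ I (n + 1) _ ha, comp_zero]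
    haveI : Epi (p n) := epi_comp _ _
    refine isIso_desc_of_factor _ (p n) _ v ?_
    change (inv (sysMap F (le_max_right n c)) ≫ sysMap F (le_max_left n c)) ≫ v = Formal.modPowπ I (n + 1) _
    rw [Category.assoc, hv, IsIso.inv_hom_id_assoc]
  refine ⟨NatIso.ofComponents (fun n => @asIso _ _ _ _ (e n.unop) (he n.unop)) ?_⟩
  rintro ⟨m⟩ ⟨n⟩ φ
  obtain ⟨h⟩ : Nonempty (n ≤ m) := ⟨leOfHom φ.unop⟩
  rw [show φ = (homOfLE h).op from Subsingleton.elim _ _]
  clear φ
  induction m, h using Nat.le_induction with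
  | base =>
    rw [show (homOfLE (le_refl n)).op = 𝟙 (op n) from rfl, CategoryTheory.Functor.map_id,
      CategoryTheory.Functor.map_id, Category.id_comp, Category.comp_id]
  | succ m h ih =>
    rw [show (homOfLE (h.trans (Nat.le_succ m))).op = (homOfLE (Nat.le_succ m)).op ≫ (homOfLE h).op from rfl,
      Functor.map_comp, Functor.map_comp, Category.assoc, ih, ← Category.assoc, ← Category.assoc]
    refine congrArg (· ≫ F.map (homOfLE h).op) ?_
    have key : Formal.modPowTrans I (m + 1) (F.obj (op c)) ≫ e m = e (m + 1) ≫ sysMap F (Nat.le_succ m) := by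
      rw [← cancel_epi (Formal.modPowπ I (m + 1 + 1) (F.obj (op c))), ← Category.assoc, Formal.modPowπ_trans]
      change cokernel.π _ ≫ cokernel.desc _ _ _ = cokernel.π _ ≫ cokernel.desc _ _ _ ≫ _
      rw [cokernel.π_desc, cokernel.π_desc_assoc]
      have hM := hiso (m + 1)
      rw [← cancel_epi (sysMap F (le_max_right (m + 1) c)),
        hp m _ ((Nat.le_succ m).trans (le_max_left _ _)), ← Category.assoc, hp (m + 1) _ (le_max_left _ _),
        sysMap_comp]
    exact (congrArg (· ≫ e m) (Functor.ofOpSequence_map_homOfLE_succ _ m)).trans key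

end Groth.Agent.Formal27
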