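import Groth.Agent.Formal27.Affine
import Groth.Agent.Formal27.Torsion
import Groth.Agent.Formal27.ArtinRees
import Groth.Agent.QC70.FiniteType

/-!
Maps between completions when one side is killed by a power of the ideal.
-/

set_option autoImplicit false

universe u

open CategoryTheory CategoryTheory.Limits AlgebraicGeometry Opposite TopologicalSpace

noncomputable section

namespace Groth.Agent.Formal27

variable {A : Type u} [CommRing A] {X : Scheme.{u}} [X.Over (Spec (CommRingCat.of A))]

theorem completion_π_trans {I : Ideal A} {F G : X.Modules}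
    (ψ : Formal.completion I F ⟶ Formal.completion I G) {m n : ℕ} (h : m ≤ n) :
    (Formal.modPowπ I (n + 1) F ≫ ψ.app (op n)) ≫ Formal2.modPowLE I (Nat.succ_le_succ h) G =
      Formal.modPowπ I (m + 1) F ≫ ψ.app (op m) := by
  induction n, h using Nat.le_induction with
  | base =>
    have : Formal2.modPowLE I (le_refl (m + 1)) G = 𝟙 _ := by
      rw [← cancel_epi (Formal.modPowπ I (m + 1) G), Formal2.modPowπ_modPowLE, Category.comp_id]
    exact (congrArg (_ ≫ ·) this).trans (Category.comp_id _)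
  | succ n h ih =>
    have e : Formal2.modPowLE I (Nat.succ_le_succ (h.trans (Nat.le_succ n))) G =
        Formal.modPowTrans I (n + 1) G ≫ Formal2.modPowLE I (Nat.succ_le_succ h) G := by
      rw [← cancel_epi (Formal.modPowπ I (n + 1 + 1) G), ← Category.assoc, Formal.modPowπ_trans,
        Formal2.modPowπ_modPowLE]
      exact (Formal2.modPowπ_modPowLE I (Nat.succ_le_succ h) G).symm
    have nat : (Formal.completion I F).map (homOfLE (Nat.le_add_right n 1)).op ≫ ψ.app (op n) =
        ψ.app (op (n + 1)) ≫ (Formal.completion I G).map (homOfLE (Nat.le_add_right n 1)).op :=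
      ψ.naturality _
    rw [show (Formal.completion I F).map (homOfLE (Nat.le_add_right n 1)).op = Formal.modPowTrans I (n + 1) F
      from Functor.ofOpSequence_map_homOfLE_succ _ n, show (Formal.completion I G).map
      (homOfLE (Nat.le_add_right n 1)).op = Formal.modPowTrans I (n + 1) G
      from Functor.ofOpSequence_map_homOfLE_succ _ n] at nat
    refine (congrArg (_ ≫ ·) e).trans (Eq.trans ?_ ih)
    refine (Category.assoc _ _ _).symm.trans (congrArg (· ≫ Formal2.modPowLE I (Nat.succ_le_succ h) G) ?_)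
    exact (Category.assoc _ _ _).trans ((congrArg (Formal.modPowπ I (n + 1 + 1) F ≫ ·) nat.symm).trans
      ((Category.assoc _ _ _).symm.trans (congrArg (· ≫ ψ.app (op n)) (Formal.modPowπ_trans I (n + 1) F))))

/-- If the target is killed by a power of the ideal. -/
theorem existsUnique_of_killed_target {I : Ideal A} {F G : X.Modules} {c : ℕ}
    (hc : Formal.KilledBy (I ^ c) G) (ψ : Formal.completion I F ⟶ Formal.completion I G) :
    ∃! φ : F ⟶ G, ∀ n : ℕ, Formal.modPowπ I (n + 1) F ≫ ψ.app (op n) = φ ≫ Formal.modPowπ I (n + 1) G := by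
  have hz : ∀ n, c ≤ n → ∀ a ∈ I ^ (n + 1), Formal.smulMod A G a ≫ 𝟙 G = 0 := fun n hn a ha => by
    rw [hc a (Ideal.pow_le_pow_right (by omega) ha), zero_comp]
  let v : Formal.modPow I (c + 1) G ⟶ G := cokernel.desc _ (𝟙 G) (smulFamily_comp_eq_zero _ (hz c le_rfl))
  have hv : Formal.modPowπ I (c + 1) G ≫ v = 𝟙 G := cokernel.π_desc _ _ _
  have hv' : v ≫ Formal.modPowπ I (c + 1) G = 𝟙 _ := by
    rw [← cancel_epi (Formal.modPowπ I (c + 1) G), ← Category.assoc, hv, Category.id_comp, Category.comp_id]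
  refine ⟨(Formal.modPowπ I (c + 1) F ≫ ψ.app (op c)) ≫ v, fun n => ?_, fun φ hφ => ?_⟩
  · rcases le_total n c with h | h
    · have key : Formal2.modPowLE I (Nat.succ_le_succ h) G = v ≫ Formal.modPowπ I (n + 1) G := by
        rw [← Formal2.modPowπ_modPowLE I (Nat.succ_le_succ h) G, ← Category.assoc, hv', Category.id_comp]
      exact (completion_π_trans ψ h).symm.trans
        ((congrArg ((Formal.modPowπ I (c + 1) F ≫ ψ.app (op c)) ≫ ·) key).trans (Category.assoc _ _ _).symm)
    · have key : (Formal2.modPowLE I (Nat.succ_le_succ h) G ≫ v) ≫ Formal.modPowπ I (n + 1) G = 𝟙 _ := by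
        rw [← cancel_epi (Formal.modPowπ I (n + 1) G), ← Category.assoc, ← Category.assoc,
          Formal2.modPowπ_modPowLE, hv, Category.id_comp, Category.comp_id]
      refine Eq.trans ?_ (congrArg (fun q => (q ≫ v) ≫ Formal.modPowπ I (n + 1) G) (completion_π_trans ψ h))
      exact ((Category.comp_id _).symm.trans (congrArg ((Formal.modPowπ I (n + 1) F ≫ ψ.app (op n)) ≫ ·) key.symm)).trans
        ((Category.assoc _ _ _).symm.trans (congrArg (· ≫ Formal.modPowπ I (n + 1) G) (Category.assoc _ _ _).symm))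
  · rw [← Category.comp_id φ, ← hv, ← Category.assoc, ← hφ c]
    rfl

variable [AlgebraicGeometry.IsNoetherian X]

variable (A) in
/-- The sections killed by `J`. -/
def torsSub (M : X.Modules) (J : Ideal A) : QC70.LocalSubmod M where
  obj V :=
    { carrier := {s | ∀ a ∈ J, gi A X V a • s = 0}
      add_mem' := fun hs ht a ha => by rw [smul_add, hs a ha, ht a ha, add_zero]
      zero_mem' := fun a _ => smul_zero _
      smul_mem' := fun r s hs a ha => by rw [smul_comm, hs a ha, smul_zero] }
  res_mem := fun {V W} h {s} hs a ha => by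
    rw [← res_gi h a, ← QC70.res_smul, hs a ha, QC70.res_zero]
  of_locally := fun {V} s hs a ha => QC70.section_ext _ _ _ fun p hp => by
    obtain ⟨W, h, hpW, hW⟩ := hs p hp
    exact ⟨W, h, hpW, by rw [QC70.res_smul, res_gi, hW a ha, QC70.res_zero]⟩

omit [AlgebraicGeometry.IsNoetherian X] in
theorem IM_eq (M : X.Modules) (I : Ideal A) (n : ℕ) (V : X.Opens) :
    IM M (I ^ n) V = I.map (gi A X V) ^ n • ⊤ := by
  rw [IM, Ideal.map_pow]

/-- The Artin–Rees bound on an affine open. -/
def ARBound (I : Ideal A) (c : ℕ) (G : X.Modules) (V : X.Opens) (k : ℕ) : Prop :=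
  (∀ (n : ℕ) (x : Γ(G, V)), (∀ a ∈ I ^ c, gi A X V a • x ∈ IM G (I ^ (n + k)) V) →
    ∃ t : Γ(G, V), t ∈ (torsSub A G (I ^ c)).obj V ∧ x - t ∈ IM G (I ^ n) V) ∧
  ∀ x ∈ IM G (I ^ k) V, x ∈ (torsSub A G (I ^ c)).obj V → x = 0

theorem exists_arBound (I : Ideal A) (c : ℕ) (G : X.Modules) (hG : Coh.IsCoh G) {V : X.Opens}
    (hV : IsAffineOpen V) : ∃ k, ARBound I c G V k := by
  haveI := hG.1
  haveI := hG.2
  haveI : IsNoetherianRing Γ(X, V) := IsLocallyNoetherian.component_noetherian ⟨V, hV⟩
  haveI := QC70.finite_sections_of_isFiniteType G hV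
  obtain ⟨k, h1, h2⟩ := exists_artinRees_torsion (M := Γ(G, V)) (I.map (gi A X V)) c
  have key : ∀ (z : Γ(G, V)) (P : Submodule Γ(X, V) Γ(G, V)), (∀ a ∈ I ^ c, gi A X V a • z ∈ P) →
      ∀ b ∈ I.map (gi A X V) ^ c, b • z ∈ P := fun z P hz b hb => by
    rw [← Ideal.map_pow] at hb
    induction hb using Submodule.span_induction with
    | mem r hr =>
      obtain ⟨a, ha, rfl⟩ := hr
      exact hz a ha
    | zero => rw [zero_smul]; exact zero_mem _
    | add r s _ _ hr hs => rw [add_smul]; exact add_mem hr hs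
    | smul c r _ hr => rw [smul_assoc]; exact Submodule.smul_mem _ _ hr
  have hb : ∀ a ∈ I ^ c, gi A X V a ∈ I.map (gi A X V) ^ c := fun a ha => by
    rw [← Ideal.map_pow]; exact Ideal.mem_map_of_mem _ ha
  refine ⟨k, fun n x hx => ?_, fun x hx hx' => ?_⟩
  · obtain ⟨t, ht, ht'⟩ := h1 n x (key x _ fun a ha => by rw [← IM_eq]; exact hx a ha)
    exact ⟨t, fun a ha => ht _ (hb a ha), by rw [IM_eq]; exact ht'⟩
  · rw [IM_eq] at hx
    exact h2 x hx fun b hb => (Submodule.mem_bot _).mp
      (key x ⊥ (fun a ha => (Submodule.mem_bot _).mpr (hx' a ha)) b hb)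

omit [AlgebraicGeometry.IsNoetherian X] in
theorem ARBound.mono {I : Ideal A} {c : ℕ} {G : X.Modules} {V : X.Opens} {k k' : ℕ} (hk : k ≤ k')
    (h : ARBound I c G V k) : ARBound I c G V k' :=
  ⟨fun n x hx => h.1 n x fun a ha =>
      Submodule.smul_mono_left (Ideal.map_mono (Ideal.pow_le_pow_right (by omega))) (hx a ha),
    fun x hx => h.2 x (Submodule.smul_mono_left (Ideal.map_mono (Ideal.pow_le_pow_right hk)) hx)⟩

omit [X.Over (Spec (CommRingCat.of A))] [AlgebraicGeometry.IsNoetherian X] in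
/-- A map out of a quasi-coherent module vanishing on the sections of an affine cover vanishes. -/
theorem eq_zero_of_cover {F Z : X.Modules} [F.IsQuasicoherent] (φ : F ⟶ Z) (S : Set X.affineOpens)
    (hS : ∀ p : X, ∃ W ∈ S, p ∈ W.1) (h : ∀ W ∈ S, ∀ x : Γ(F, W.1), φ.app W.1 x = 0) : φ = 0 := by
  refine Scheme.Modules.hom_ext _ _ fun U => ?_
  ext x
  refine QC70.section_ext _ _ _ fun p hp => ?_
  obtain ⟨W, hWS, hpW⟩ := hS p
  obtain ⟨g, hg, hpg⟩ := W.2.exists_basicOpen_le ⟨p, hp⟩ hpW
  refine ⟨X.basicOpen g, hg, hpg, ?_⟩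
  obtain ⟨n, t, ht⟩ := Coh69.qcoh_exists_pow_smul_eq_res W.2 g (QC70.res F hg x)
  have h0 : φ.app (X.basicOpen g) (QC70.res F (X.basicOpen_le g) t) = 0 := by
    rw [QC70.app_res, h W hWS t, QC70.res_zero]
  rw [show QC70.res F (X.basicOpen_le g) t = _ from ht, Scheme.Modules.Hom.app_smul, QC70.app_res] at h0
  have hu : IsUnit (QC70.resO X (X.basicOpen_le g) g ^ n) :=
    (X.toRingedSpace.isUnit_res_basicOpen g).pow n
  change QC70.res Z hg (φ.app U x) = QC70.res Z hg 0
  rw [QC70.res_zero]
  exact hu.smul_eq_zero.mp h0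

omit [X.Over (Spec (CommRingCat.of A))] [AlgebraicGeometry.IsNoetherian X] in
theorem exists_cover [CompactSpace X] : ∃ s : Finset X.affineOpens, ∀ p : X, ∃ W ∈ s, p ∈ W.1 := by
  obtain ⟨s, hs⟩ := isCompact_univ.elim_finite_subcover (fun U : X.affineOpens => (U.1 : Set X))
    (fun U => U.1.isOpen) fun x _ => by
      obtain ⟨V, hV, hxV, -⟩ := X.isBasis_affineOpens.exists_subset_of_mem_open (Set.mem_univ x) isOpen_univ
      obtain ⟨V, hV', rfl⟩ := hV
      exact Set.mem_iUnion.mpr ⟨⟨V, hV'⟩, hxV⟩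
  exact ⟨s, fun p => by simpa using hs (Set.mem_univ p)⟩

/-- If the source is killed by a power of the ideal. -/
theorem existsUnique_of_killed_source {I : Ideal A} {F G : X.Modules} (hF : Coh.IsCoh F) (hG : Coh.IsCoh G)
    {c : ℕ} (hc : Formal.KilledBy (I ^ c) F) (ψ : Formal.completion I F ⟶ Formal.completion I G) :
    ∃! φ : F ⟶ G, ∀ n : ℕ, Formal.modPowπ I (n + 1) F ≫ ψ.app (op n) = φ ≫ Formal.modPowπ I (n + 1) G := by
  classical
  haveI := hF.1
  haveI := hG.1
  obtain ⟨S, hS⟩ := exists_cover (X := X)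
  choose kW hkW using fun W : X.affineOpens => exists_arBound I c G hG W.2
  let k := S.sup kW
  have hk : ∀ W ∈ S, ARBound I c G W.1 k := fun W hW => (hkW W).mono (Finset.le_sup hW)
  let T := torsSub A G (I ^ c)
  let ι : ∀ m, T.mod ⟶ Formal.modPow I (m + 1) G := fun m => T.ι ≫ Formal.modPowπ I (m + 1) G
  have hmono : ∀ m, k ≤ m + 1 → Mono (ι m) := fun m hm => by
    refine QC70.mono_of_app_injective _ fun U => (injective_iff_map_eq_zero _).2 fun s hs => ?_
    refine QC70.section_ext _ _ _ fun p hp => ?_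
    obtain ⟨W, hWS, hpW⟩ := hS p
    obtain ⟨g, hg, hpg⟩ := W.2.exists_basicOpen_le ⟨p, hp⟩ hpW
    refine ⟨X.basicOpen g, hg, hpg, ?_⟩
    let y : Γ(G, X.basicOpen g) := T.ι.app _ (QC70.res T.mod hg s)
    have hy0 : (Formal.modPowπ I (m + 1) G).app _ y = 0 := by
      change (ι m).app _ (QC70.res T.mod hg s) = 0
      rw [QC70.app_res, hs, QC70.res_zero]
    have hyIM := (modPowπ_app_eq_zero_iff (W.2.basicOpen g) y).mp hy0
    have hyT : y ∈ T.obj (X.basicOpen g) := (show T.obj (X.basicOpen g) from QC70.res T.mod hg s).2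
    obtain ⟨l, t, ht, hte⟩ : ∃ (l : ℕ) (t : Γ(G, W.1)), t ∈ IM G (I ^ (m + 1)) W.1 ∧
        QC70.res G (X.basicOpen_le g) t = QC70.resO X (X.basicOpen_le g) g ^ l • y :=
      exists_lift_IM W.2 g y hyIM
    -- a multiple of `t` is torsion
    haveI := hG.2
    haveI : IsNoetherianRing Γ(X, W.1) := IsLocallyNoetherian.component_noetherian W
    obtain ⟨r, b, hb⟩ := (Submodule.fg_iff_exists_fin_generating_family).mp
      (IsNoetherian.noetherian ((I ^ c).map (gi A X W.1)))
    have hbt : ∀ i, ∃ N, g ^ N • b i • t = 0 := fun i => by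
      refine Coh69.qcoh_exists_pow_smul_eq_zero W.2 g _ ?_
      change QC70.res G (X.basicOpen_le g) (b i • t) = 0
      rw [QC70.res_smul, hte, smul_comm]
      have hby : QC70.resO X (X.basicOpen_le g) (b i) • y = 0 := by
        have hbi : b i ∈ (I ^ c).map (gi A X W.1) := hb ▸ Submodule.subset_span (Set.mem_range_self i)
        generalize b i = q at hbi ⊢
        induction hbi using Submodule.span_induction with
        | mem r hr =>
          obtain ⟨a, ha, rfl⟩ := hr
          rw [res_gi]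
          exact hyT a ha
        | zero => rw [show QC70.resO X _ (0 : Γ(X, W.1)) = 0 from map_zero _, zero_smul]
        | add r s _ _ hr hs =>
          rw [show QC70.resO X _ (r + s) = QC70.resO X (X.basicOpen_le g) r + QC70.resO X (X.basicOpen_le g) s
            from map_add _ _ _, add_smul, hr, hs, add_zero]
        | smul d r _ hr =>
          rw [show QC70.resO X _ (d • r) = QC70.resO X (X.basicOpen_le g) d * QC70.resO X (X.basicOpen_le g) r
            from map_mul _ _ _, mul_smul, hr, smul_zero]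
      rw [hby, smul_zero]
    choose N hN using hbt
    let L := Finset.univ.sup N
    have ht0 : g ^ L • t = 0 := by
      refine (hk W hWS).2 _ (Submodule.smul_mem _ _
        (Submodule.smul_mono_left (Ideal.map_mono (Ideal.pow_le_pow_right hm)) ht)) fun a ha => ?_
      obtain ⟨d, hd⟩ := (Submodule.mem_span_range_iff_exists_fun _).mp
        (hb.symm ▸ Ideal.mem_map_of_mem (gi A X W.1) ha : gi A X W.1 a ∈ Submodule.span _ (Set.range b))
      rw [← hd, Finset.sum_smul]
      refine Finset.sum_eq_zero fun i _ => ?_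
      have hL : g ^ L = g ^ (L - N i) * g ^ N i := by
        rw [← pow_add, Nat.sub_add_cancel (Finset.le_sup (f := N) (Finset.mem_univ i))]
      rw [smul_assoc, smul_comm (b i), hL, mul_smul, hN i, smul_zero, smul_zero]
    have hy : y = 0 := by
      have hu : IsUnit (QC70.resO X (X.basicOpen_le g) g ^ (L + l)) :=
        (X.toRingedSpace.isUnit_res_basicOpen g).pow _
      refine hu.smul_eq_zero.mp ?_
      have := congrArg (QC70.res G (X.basicOpen_le g)) ht0
      rw [QC70.res_smul, QC70.resO_pow, hte, QC70.res_zero, smul_smul, ← pow_add] at this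
      exact this
    refine QC70.app_injective_of_mono T.ι _ ?_
    rw [QC70.res_zero, map_zero]
    exact hy
  -- factorization
  have hfac : ∀ m, (Formal.modPowπ I (m + 1) F ≫ ψ.app (op m)) ≫ cokernel.π (ι m) = 0 := fun m => by
    refine eq_zero_of_cover _ S hS fun W hW x => ?_
    let m' := m + k
    obtain ⟨z, hz⟩ := modPowπ_app_surjective (M := G) I (m' + 1) W.2
      ((Formal.modPowπ I (m' + 1) F ≫ ψ.app (op m')).app W.1 x)
    obtain ⟨t, ht, htz⟩ := (hk W hW).1 (m + 1) z fun a ha => by
      rw [show m + 1 + k = m' + 1 by omega]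
      refine (modPowπ_app_eq_zero_iff W.2 _).mp ?_
      rw [Scheme.Modules.Hom.app_smul, hz]
      refine (Scheme.Modules.Hom.app_smul (Formal.modPowπ I (m' + 1) F ≫ ψ.app (op m')) _ x).symm.trans ?_
      have hax : gi A X W.1 a • x = 0 := congrArg (fun φ => (Scheme.Modules.Hom.app φ W.1) x) (hc a ha)
      rw [hax]
      exact map_zero _
    have e1 : (Formal.modPowπ I (m + 1) F ≫ ψ.app (op m)).app W.1 x = (Formal.modPowπ I (m + 1) G).app W.1 z := by
      rw [← completion_π_trans ψ (Nat.le_add_right m k)]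
      change (Formal2.modPowLE I (Nat.succ_le_succ (Nat.le_add_right m k)) G).app W.1 ((Formal.modPowπ I (m' + 1) F ≫ ψ.app (op m')).app W.1 x) = _
      rw [← hz]
      exact congrArg (fun φ => (Scheme.Modules.Hom.app φ W.1) z)
        (Formal2.modPowπ_modPowLE I (Nat.succ_le_succ (Nat.le_add_right m k)) G)
    have e2 : (Formal.modPowπ I (m + 1) G).app W.1 z = (ι m).app W.1 (⟨t, ht⟩ : T.obj W.1) := by
      have := modPowπ_app_eq_zero_of_mem htz
      rw [map_sub, sub_eq_zero] at this
      exact this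
    change (cokernel.π (ι m)).app W.1 ((Formal.modPowπ I (m + 1) F ≫ ψ.app (op m)).app W.1 x) = 0
    rw [e1, e2]
    exact congrArg (fun φ => (Scheme.Modules.Hom.app φ W.1) (⟨t, ht⟩ : T.obj W.1)) (cokernel.condition (ι m))
  haveI : Mono (ι k) := hmono k (Nat.le_succ k)
  let φ₀ : F ⟶ T.mod := Abelian.monoLift (ι k) _ (hfac k)
  have hφ : φ₀ ≫ ι k = Formal.modPowπ I (k + 1) F ≫ ψ.app (op k) := Abelian.monoLift_comp _ _ _
  have hιLE : ∀ {m n : ℕ} (h : m ≤ n), ι n ≫ Formal2.modPowLE I (Nat.succ_le_succ h) G = ι m := fun {m n} h => by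
    simp only [ι]
    rw [Category.assoc, Formal2.modPowπ_modPowLE]
  refine ⟨φ₀ ≫ T.ι, fun n => ?_, fun φ hφ' => ?_⟩
  · rcases le_total n k with h | h
    · exact (completion_π_trans ψ h).symm.trans ((congrArg (· ≫ Formal2.modPowLE I (Nat.succ_le_succ h) G) hφ.symm).trans
        ((Category.assoc _ _ _).trans ((congrArg (φ₀ ≫ ·) (hιLE h)).trans (Category.assoc _ _ _).symm)))
    · haveI : Mono (ι n) := hmono n (h.trans (Nat.le_succ n))
      let l : F ⟶ T.mod := Abelian.monoLift (ι n) _ (hfac n)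
      have hl : l ≫ ι n = Formal.modPowπ I (n + 1) F ≫ ψ.app (op n) := Abelian.monoLift_comp _ _ _
      have hn : l = φ₀ := by
        rw [← cancel_mono (ι k)]
        refine Eq.trans ?_ ((completion_π_trans ψ h).trans hφ.symm)
        exact (congrArg (l ≫ ·) (hιLE h).symm).trans ((Category.assoc _ _ _).symm.trans
          (congrArg (· ≫ Formal2.modPowLE I (Nat.succ_le_succ h) G) hl))
      rw [← hn, Category.assoc]
      exact hl.symm
  · have hT : ∀ (V : X.Opens) (s : Γ(F, V)), φ.app V s ∈ T.obj V := fun V s a ha => by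
      rw [← Scheme.Modules.Hom.app_smul]
      have : gi A X V a • s = 0 := congrArg (fun φ => (Scheme.Modules.Hom.app φ V) s) (hc a ha)
      rw [this, map_zero]
    rw [← T.lift_ι φ hT]
    refine congrArg (· ≫ T.ι) ?_
    rw [← cancel_mono (ι k), hφ, hφ' k]
    simp only [ι]
    rw [← Category.assoc, T.lift_ι]

end Groth.Agent.Formal27
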