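import Groth.Agent.Formal27.SmulMod
import Groth.Agent.QC70.Colim
import Groth.Agent.QC70.SubMod
import Groth.Agent.QC70.Closure
import Groth.Agent.Coh69.QCohLoc

/-!
Sections of `M / I^n M` on affine opens, for quasi-coherent `M`.
-/

set_option autoImplicit false

universe u

open CategoryTheory CategoryTheory.Limits AlgebraicGeometry Opposite TopologicalSpace

noncomputable section

namespace Groth.Agent.Formal27

variable {A : Type u} [CommRing A] {X : Scheme.{u}} [X.Over (Spec (CommRingCat.of A))]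

variable (A X) in
/-- The functions from the base ring. -/
def gi (V : X.Opens) : A →+* Γ(X, V) :=
  (X.presheaf.map (homOfLE le_top).op).hom.comp (Coh.toGlobal (X ↘ Spec (CommRingCat.of A)))

theorem smulMod_app (M : X.Modules) (a : A) (V : X.Opens) (m : Γ(M, V)) :
    (Formal.smulMod A M a).app V m = gi A X V a • m := rfl

theorem res_gi {V W : X.Opens} (h : W ≤ V) (a : A) : QC70.resO X h (gi A X V a) = gi A X W a := by
  change (X.presheaf.map _).hom ((X.presheaf.map _).hom _) = (X.presheaf.map _).hom _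
  rw [← CommRingCat.comp_apply, ← Functor.map_comp]
  rfl

variable (M : X.Modules) (J : Ideal A)

/-- `J Γ(M, V)`. -/
def IM (V : X.Opens) : Submodule Γ(X, V) Γ(M, V) := J.map (gi A X V) • ⊤

variable {M J}

theorem smul_mem_IM {V : X.Opens} {a : A} (ha : a ∈ J) (m : Γ(M, V)) : gi A X V a • m ∈ IM M J V :=
  Submodule.smul_mem_smul (Ideal.mem_map_of_mem _ ha) Submodule.mem_top

/-- Induction on `J Γ(M, V)`. -/
theorem IM_induction {V : X.Opens} {p : Γ(M, V) → Prop} {x : Γ(M, V)} (hx : x ∈ IM M J V)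
    (smul : ∀ a ∈ J, ∀ m, p (gi A X V a • m)) (zero : p 0) (add : ∀ x y, p x → p y → p (x + y)) : p x := by
  refine Submodule.smul_induction_on hx (fun r hr m hm => ?_) add
  clear hm
  revert m
  induction hr using Submodule.span_induction with
  | mem r hr =>
    obtain ⟨a, ha, rfl⟩ := hr
    exact smul a ha
  | zero => intro m; rwa [zero_smul]
  | add r s _ _ hr hs => intro m; rw [add_smul]; exact add _ _ (hr m) (hs m)
  | smul c r _ hr => intro m; rw [smul_eq_mul, mul_comm, mul_smul]; exact hr _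

theorem res_mem_IM {V W : X.Opens} (h : W ≤ V) {x : Γ(M, V)} (hx : x ∈ IM M J V) :
    QC70.res M h x ∈ IM M J W := by
  refine IM_induction (p := fun x => QC70.res M h x ∈ IM M J W) hx (fun a ha m => ?_) ?_ fun x y hx hy => ?_
  · rw [QC70.res_smul, res_gi]; exact smul_mem_IM ha _
  · rw [QC70.res_zero]; exact zero_mem _
  · rw [QC70.res_add]; exact add_mem hx hy

variable (M J) in
/-- The subsheaf `J M`. -/
def powSub : QC70.LocalSubmod M where
  obj V :=
    { carrier := {s | ∀ p ∈ V, ∃ (W : X.Opens) (h : W ≤ V), p ∈ W ∧ QC70.res M h s ∈ IM M J W}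
      add_mem' := fun {s t} hs ht p hp => by
        obtain ⟨W, h, hpW, hW⟩ := hs p hp
        obtain ⟨W', h', hpW', hW'⟩ := ht p hp
        refine ⟨W ⊓ W', inf_le_left.trans h, ⟨hpW, hpW'⟩, ?_⟩
        have e1 := res_mem_IM (inf_le_left : W ⊓ W' ≤ W) hW
        have e2 := res_mem_IM (inf_le_right : W ⊓ W' ≤ W') hW'
        rw [QC70.res_res] at e1 e2
        rw [QC70.res_add]
        exact add_mem e1 e2
      zero_mem' := fun p hp => ⟨V, le_rfl, hp, by rw [QC70.res_zero]; exact zero_mem _⟩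
      smul_mem' := fun c {s} hs p hp => by
        obtain ⟨W, h, hpW, hW⟩ := hs p hp
        exact ⟨W, h, hpW, by rw [QC70.res_smul]; exact Submodule.smul_mem _ _ hW⟩ }
  res_mem := fun {V W} h {s} hs p hp => by
    obtain ⟨W', h', hpW', hW'⟩ := hs p (h hp)
    refine ⟨W' ⊓ W, inf_le_right, ⟨hpW', hp⟩, ?_⟩
    have e := res_mem_IM (inf_le_left : W' ⊓ W ≤ W') hW'
    rw [QC70.res_res] at e ⊢
    exact e
  of_locally := fun {V} s hs p hp => by
    obtain ⟨W, h, hpW, hW⟩ := hs p hp
    obtain ⟨W', h', hpW', hW'⟩ := hW p hpW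
    exact ⟨W', h'.trans h, hpW', by rwa [QC70.res_res] at hW'⟩

theorem mem_powSub_of_mem_IM {V : X.Opens} {x : Γ(M, V)} (hx : x ∈ IM M J V) : x ∈ (powSub M J).obj V :=
  fun _ hp => ⟨V, le_rfl, hp, res_mem_IM le_rfl hx⟩

theorem modPowπ_app_smul {I : Ideal A} {n : ℕ} {V : X.Opens} {a : A} (ha : a ∈ I ^ n) (m : Γ(M, V)) :
    (Formal.modPowπ I n M).app V (gi A X V a • m) = 0 := by
  have h := congrArg (fun φ => (Scheme.Modules.Hom.app φ V) m) (smulMod_modPowπ I n M ha)
  exact h

theorem modPowπ_app_eq_zero_of_mem {I : Ideal A} {n : ℕ} {V : X.Opens} {x : Γ(M, V)}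
    (hx : x ∈ IM M (I ^ n) V) : (Formal.modPowπ I n M).app V x = 0 := by
  refine IM_induction (p := fun x => (Formal.modPowπ I n M).app V x = 0) hx (fun a ha m => ?_) ?_
    fun x y hx hy => ?_
  · exact modPowπ_app_smul ha m
  · exact map_zero _
  · rw [map_add, hx, hy, add_zero]

theorem mem_powSub_of_modPowπ_app_eq_zero {I : Ideal A} {n : ℕ} {V : X.Opens} {x : Γ(M, V)}
    (hx : (Formal.modPowπ I n M).app V x = 0) : x ∈ (powSub M (I ^ n)).obj V := by
  let N := powSub M (I ^ n)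
  have hz : ∀ a ∈ I ^ n, Formal.smulMod A M a ≫ cokernel.π N.ι = 0 := fun a ha => by
    refine Scheme.Modules.hom_ext _ _ fun W => ?_
    ext m
    have hm : gi A X W a • m ∈ N.obj W := mem_powSub_of_mem_IM (smul_mem_IM ha m)
    exact QC70.app_f_g (ShortComplex.mk N.ι (cokernel.π N.ι) (cokernel.condition _)) W ⟨_, hm⟩
  have h0 : (cokernel.π N.ι).app V x = 0 := by
    have e : Formal.modPowπ I n M ≫ cokernel.desc _ _ (smulFamily_comp_eq_zero _ hz) = cokernel.π N.ι :=
      cokernel.π_desc _ _ _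
    rw [← e, Scheme.Modules.Hom.comp_app]
    change (Scheme.Modules.Hom.app _ V) ((Scheme.Modules.Hom.app (Formal.modPowπ I n M) V) x) = 0
    rw [hx]
    exact map_zero _
  obtain ⟨y, hy⟩ := QC70.exists_app_eq_of_exact (ShortComplex.mk N.ι (cokernel.π N.ι) (cokernel.condition _))
    (ShortComplex.exact_of_g_is_cokernel _ (cokernelIsCokernel _)) V x h0
  rw [← hy]
  exact (show N.obj V from y).2

variable [M.IsQuasicoherent]

/-- Elements of `J Γ(M, D(g))` come from `J Γ(M, V)` up to powers of `g`. -/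
theorem exists_lift_IM {V : X.Opens} (hV : IsAffineOpen V) (g : Γ(X, V)) (z : Γ(M, X.basicOpen g))
    (hz : z ∈ IM M J (X.basicOpen g)) :
    ∃ (k : ℕ) (t : Γ(M, V)), t ∈ IM M J V ∧
      QC70.res M (X.basicOpen_le g) t = QC70.resO X (X.basicOpen_le g) g ^ k • z := by
  refine IM_induction (p := fun z => ∃ (k : ℕ) (t : Γ(M, V)), t ∈ IM M J V ∧
      QC70.res M (X.basicOpen_le g) t = QC70.resO X (X.basicOpen_le g) g ^ k • z) hz
    (fun a ha m => ?_) ?_ fun y z hy hz => ?_
  · obtain ⟨k, t, ht⟩ := Coh69.qcoh_exists_pow_smul_eq_res hV g m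
    refine ⟨k, gi A X V a • t, smul_mem_IM ha t, ?_⟩
    rw [QC70.res_smul, res_gi, smul_comm]
    exact congrArg _ ht
  · exact ⟨0, 0, zero_mem _, by rw [QC70.res_zero, smul_zero]⟩
  · obtain ⟨k, t, ht, hte⟩ := hy
    obtain ⟨l, s, hs, hse⟩ := hz
    refine ⟨k + l, g ^ l • t + g ^ k • s, add_mem (Submodule.smul_mem _ _ ht) (Submodule.smul_mem _ _ hs), ?_⟩
    rw [QC70.res_add, QC70.res_smul, QC70.res_smul, hte, hse, QC70.resO_pow, QC70.resO_pow, smul_smul, smul_smul, smul_add,
      pow_add, mul_comm (QC70.resO X _ g ^ l)]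

theorem mem_IM_of_mem_powSub {V : X.Opens} (hV : IsAffineOpen V) {x : Γ(M, V)}
    (hx : x ∈ (powSub M J).obj V) : x ∈ IM M J V := by
  let K : Ideal Γ(X, V) := (IM M J V).colon {x}
  have hlift := exists_lift_IM (M := M) (J := J) hV
  have key : ∀ p : V, ∃ g ∈ K, p.1 ∈ X.basicOpen g := by
    intro p
    obtain ⟨W, hWV, hpW, hW⟩ := hx p.1 p.2
    obtain ⟨g, hgW, hpg⟩ := hV.exists_basicOpen_le ⟨p.1, hpW⟩ p.2
    have hg := res_mem_IM hgW hW
    rw [QC70.res_res] at hg
    obtain ⟨k, t, ht, hte⟩ := hlift g _ hg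
    obtain ⟨l, hl⟩ := Coh69.qcoh_exists_pow_smul_eq_zero hV g (g ^ k • x - t) (by
      change QC70.res M (X.basicOpen_le g) (g ^ k • x - t) = 0
      rw [QC70.res_sub, QC70.res_smul, QC70.resO_pow, hte, sub_self])
    refine ⟨g ^ (l + k + 1), Submodule.mem_colon_singleton.mpr ?_, ?_⟩
    · rw [smul_sub, sub_eq_zero, smul_smul, ← pow_add] at hl
      rw [pow_succ', mul_smul, hl, smul_smul]
      exact Submodule.smul_mem _ _ ht
    · rw [X.basicOpen_pow _ (Nat.succ_pos _)]
      exact hpg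
  have hK : K = ⊤ := by
    have h : Ideal.span (K : Set Γ(X, V)) = ⊤ := by
      rw [← hV.self_le_iSup_basicOpen_iff]
      intro p hp
      obtain ⟨g, hg, hpg⟩ := key ⟨p, hp⟩
      exact Opens.mem_iSup.mpr ⟨⟨g, hg⟩, hpg⟩
    rwa [Ideal.span_eq] at h
  have h1 : (1 : Γ(X, V)) ∈ K := hK ▸ Submodule.mem_top
  simpa [K] using (Submodule.mem_colon_singleton.mp h1)

/-- The kernel of `M → M/I^nM` on affine sections. -/
theorem modPowπ_app_eq_zero_iff {I : Ideal A} {n : ℕ} {V : X.Opens} (hV : IsAffineOpen V) (x : Γ(M, V)) :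
    (Formal.modPowπ I n M).app V x = 0 ↔ x ∈ IM M (I ^ n) V :=
  ⟨fun h => mem_IM_of_mem_powSub hV (mem_powSub_of_modPowπ_app_eq_zero h), modPowπ_app_eq_zero_of_mem⟩

variable (M) in
theorem isQuasicoherent_modPow (I : Ideal A) (n : ℕ) : (Formal.modPow I n M).IsQuasicoherent := by
  have := QC70.isQuasicoherent_coproduct (X := X) (fun _ : ↥(I ^ n) => M) (fun _ => inferInstance)
  exact QC70.isQuasicoherent_cokernel _

/-- `M → M/I^nM` is onto on affine sections. -/
theorem modPowπ_app_surjective (I : Ideal A) (n : ℕ) {V : X.Opens} (hV : IsAffineOpen V) :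
    Function.Surjective ((Formal.modPowπ I n M).app V) := by
  have := isQuasicoherent_modPow M I n
  let S := ShortComplex.mk (kernel.ι (Formal.modPowπ I n M)) (Formal.modPowπ I n M) (kernel.condition _)
  have hS : S.ShortExact :=
    { exact := ShortComplex.exact_of_f_is_kernel _ (kernelIsKernel _)
      mono_f := (inferInstance : Mono (kernel.ι _))
      epi_g := (inferInstance : Epi (Formal.modPowπ I n M)) }
  haveI : S.X₁.IsQuasicoherent := QC70.isQuasicoherent_kernel (Formal.modPowπ I n M)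
  exact QC70.app_surjective_of_isAffineOpen S hS hV

end Groth.Agent.Formal27
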