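import Groth.Agent.Formal27.HomCompl
import Groth.Agent.Amp73.GlobGen
import Groth.Agent.QC70.HomTensor
import Groth.Agent.Props58.Ext.Local

/-!
Sections of completions of finite locally free modules on quasi-affine schemes.
-/

set_option autoImplicit false
set_option backward.isDefEq.respectTransparency.types false

universe u

open CategoryTheory CategoryTheory.Limits AlgebraicGeometry Opposite TopologicalSpace

noncomputable section

namespace Groth.Agent.Formal27

open Props58.LocFree QC70

variable {X : Scheme.{u}}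

/-- The dual of a basis. -/
def dualBasis {E : X.Modules} {U : X.Opens} {n : ℕ} {s : Fin n → Γ(E, U)} (hs : StalkBasis s) (i : Fin n) :
    Γ(dualMod E, U) :=
  (HomOn.ofBasis hs fun j => if j = i then ((1 : Γ(X, U)) : Γ(unitMod X, U)) else 0).toSec

theorem dualBasis_app {E : X.Modules} {U : X.Opens} {n : ℕ} {s : Fin n → Γ(E, U)} (hs : StalkBasis s)
    {W : X.Opens} (hW : W ≤ U) (i j : Fin n) :
    (ofSec (dualBasis hs i)).app W hW (res E hW (s j)) =
      if j = i then ((1 : Γ(X, W)) : Γ(unitMod X, W)) else 0 := by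
  refine (ofBasis_app_basis hs _ hW j).trans ?_
  split_ifs
  · exact map_one (X.presheaf.map (homOfLE hW).op).hom
  · exact res_zero _

theorem comb_dualBasis_app {E : X.Modules} {U : X.Opens} {n : ℕ} {s : Fin n → Γ(E, U)} (hs : StalkBasis s)
    {W : X.Opens} (hW : W ≤ U) (a : Fin n → Γ(X, W)) (j : Fin n) :
    (ofSec (∑ i, a i • res (dualMod E) hW (dualBasis hs i))).app W le_rfl (res E hW (s j)) =
      (a j : Γ(unitMod X, W)) := by
  refine (homOn_sum_app le_rfl _ (fun i => a i • ofSec (res (dualMod E) hW (dualBasis hs i))) _).trans ?_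
  rw [Finset.sum_eq_single j]
  · rw [HomOn.smul_app, homMod_res_app, resO_self, dualBasis_app, if_pos rfl]
    exact mul_one (a j)
  · intro i _ hi
    rw [HomOn.smul_app, homMod_res_app, dualBasis_app, if_neg (Ne.symm hi)]
    exact (mul_zero (resO X le_rfl (a i)) :)
  · simp

theorem stalkBasis_dualBasis {E : X.Modules} {U : X.Opens} {n : ℕ} {s : Fin n → Γ(E, U)} (hs : StalkBasis s) :
    StalkBasis (dualBasis hs) := by
  refine stalkBasis_of_bijective fun W hW => ⟨fun a a' h => funext fun j => ?_, fun φ => ?_⟩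
  · have h' := congrArg (fun φ : Γ(dualMod E, W) => (ofSec φ).app W le_rfl (res E hW (s j))) h
    simp only [comb_dualBasis_app] at h'
    exact h'
  · exact ⟨fun i => toO ((ofSec φ).app W le_rfl (res E hW (s i))),
      homOn_ext_basis hs hW fun j => comb_dualBasis_app hs hW _ j⟩

theorem isFinLocFree_dualMod {E : X.Modules} (hE : FlatMod.IsFinLocFree E) : FlatMod.IsFinLocFree (dualMod E) :=
  isFinLocFree_iff.mpr fun x => by
    obtain ⟨U, n, s, hx, hs⟩ := isFinLocFree_iff.mp hE x
    exact ⟨U, n, _, hx, stalkBasis_dualBasis hs⟩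

/-- Evaluation `E → E^∨∨`. -/
def bidual (E : X.Modules) : E ⟶ dualMod (dualMod E) :=
  HomOn.toHom
    { app := fun U _ =>
        { toFun := fun e => HomOn.toSec
            { app := fun V hV =>
                { toFun := fun φ => (ofSec φ).app V le_rfl (res E hV e)
                  map_add' := fun φ φ' => rfl
                  map_smul' := fun a φ => by
                    change (a • ofSec φ).app V le_rfl _ = a • (ofSec φ).app V le_rfl _
                    rw [HomOn.smul_app, resO_self] }
              app_res := fun {V V'} hV h φ => by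
                simp only [LinearMap.coe_mk, AddHom.coe_mk]
                rw [homMod_res_app, ← res_res hV h, ← (ofSec φ).app_res le_rfl h] }
          map_add' := fun e e' => HomOn.ext' fun V hV φ => by
            change (ofSec φ).app V le_rfl (res E hV (e + e')) =
              (ofSec φ).app V le_rfl (res E hV e) + (ofSec φ).app V le_rfl (res E hV e')
            rw [res_add, map_add]
          map_smul' := fun a e => HomOn.ext' fun V hV φ => by
            change (ofSec φ).app V le_rfl (res E hV (a • e)) = resO X hV a • (ofSec φ).app V le_rfl (res E hV e)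
            rw [res_smul, map_smul] }
      app_res := fun {U U'} _ h e => HomOn.ext' fun V hV φ => by
        change (ofSec φ).app V le_rfl (res E hV (res E h e)) = (ofSec φ).app V le_rfl (res E (hV.trans h) e)
        rw [res_res] }

theorem bidual_app_app (E : X.Modules) {U V : X.Opens} (e : Γ(E, U)) (hV : V ≤ U) (φ : Γ(dualMod E, V)) :
    (ofSec ((bidual E).app U e)).app V hV φ = (ofSec φ).app V le_rfl (res E hV e) := rfl

theorem isIso_bidual {E : X.Modules} (hE : FlatMod.IsFinLocFree E) : IsIso (bidual E) := by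
  haveI : Mono (bidual E) := by
    refine mono_of_app_injective _ fun U => (injective_iff_map_eq_zero _).2 fun e he =>
      section_ext _ _ _ fun p hp => ?_
    obtain ⟨U₁, n, s, hp₁, hs⟩ := isFinLocFree_iff.mp hE p
    refine ⟨U ⊓ U₁, inf_le_left, ⟨hp, hp₁⟩, ?_⟩
    obtain ⟨a, ha⟩ := hs.exists_comb (inf_le_right : U ⊓ U₁ ≤ U₁) (res E inf_le_left e)
    rw [res_zero, ← ha]
    refine Finset.sum_eq_zero fun i _ => ?_
    suffices h : a i = 0 by rw [h, zero_smul]
    have h := bidual_app_app E e (inf_le_left : U ⊓ U₁ ≤ U) (res _ inf_le_right (dualBasis hs i))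
    rw [he] at h
    simp only [← ha, map_sum, map_smul, homMod_res_app, dualBasis_app] at h
    rw [Finset.sum_eq_single i (fun j _ hj => by rw [if_neg hj]; exact (mul_zero (a j) :))
      (fun h => absurd (Finset.mem_univ _) h), if_pos rfl] at h
    exact (mul_one (a i)).symm.trans h.symm
  haveI : Epi (bidual E) := by
    refine epi_of_locally_surjective _ fun U Λ p hp => ?_
    obtain ⟨U₁, n, s, hp₁, hs⟩ := isFinLocFree_iff.mp hE p
    let V := U ⊓ U₁
    have hd := stalkBasis_dualBasis hs
    refine ⟨V, inf_le_left, ∑ i, toO ((ofSec Λ).app V inf_le_left (res _ (inf_le_right : V ≤ U₁) (dualBasis hs i))) •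
      res E (inf_le_right : V ≤ U₁) (s i), ⟨hp, hp₁⟩, ?_⟩
    refine homOn_ext_basis hd (W := V) inf_le_right fun i => ?_
    rw [bidual_app_app, res_self, homMod_res_app]
    simp only [map_sum, map_smul, homMod_res_app, dualBasis_app]
    rw [Finset.sum_eq_single i (fun j _ hj => by rw [if_neg hj]; exact (mul_zero (_ : Γ(X, V)) :))
      (fun h => absurd (Finset.mem_univ _) h), if_pos rfl]
    exact (mul_one (_ : Γ(X, V)) :)
  exact isIso_of_mono_of_epi _

/-- The value at `1`. -/
def oneSec (X : Scheme.{u}) : Γ(Coh.structureModule X, (⊤ : X.Opens)) := (1 : Γ(X, ⊤))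

theorem hom_ext_one {M : X.Modules} {φ φ' : Coh.structureModule X ⟶ M}
    (h : φ.app ⊤ (oneSec X) = φ'.app ⊤ (oneSec X)) : φ = φ' :=
  Scheme.Modules.hom_ext _ _ fun V => by
    ext c
    let c' : Γ(X, V) := c
    have e : c = c' • res (Coh.structureModule X) (le_top : V ≤ ⊤) (oneSec X) :=
      ((congrArg (c' * ·) (map_one (X.presheaf.map (homOfLE (le_top : V ≤ ⊤)).op).hom)).trans
        (mul_one c')).symm
    rw [e, Scheme.Modules.Hom.app_smul, Scheme.Modules.Hom.app_smul, app_res, app_res, h]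

theorem isFinLocFree_unitMod : FlatMod.IsFinLocFree (unitMod X) := by
  rw [isFinLocFree_iff]
  intro x
  refine ⟨⊤, 1, fun _ => oneSec X, trivial, stalkBasis_of_bijective fun W hW => ?_⟩
  have e : ∀ a : Fin 1 → Γ(X, W), ∑ i, a i • res (Coh.structureModule X) hW (oneSec X) =
      (a 0 : Γ(Coh.structureModule X, W)) := fun a => by
    rw [Fin.sum_univ_one]
    exact ((congrArg (a 0 * ·) (map_one (X.presheaf.map (homOfLE hW).op).hom)).trans (mul_one _) :)
  simp only [e]
  exact ⟨fun a a' h => funext fun i => by fin_cases i; exact h, fun c => ⟨fun _ => c, rfl⟩⟩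

theorem unitHom_one {M : X.Modules} (m : Γ(M, (⊤ : X.Opens))) : (EGA73.unitHom M m).app ⊤ (oneSec X) = m :=
  (EGA73.unitHom_app M m ⊤ (1 : Γ(X, ⊤))).trans ((one_smul _ _).trans (res_self m))

/-- A map out of a quasi-coherent module on a quasi-affine scheme killing all global sections is zero. -/
theorem eq_zero_of_app_top [X.IsQuasiAffine] {F N : X.Modules} [F.IsQuasicoherent] (φ : F ⟶ N)
    (h : ∀ f : Γ(F, (⊤ : X.Opens)), φ.app ⊤ f = 0) : φ = 0 := by
  refine eq_zero_of_cover φ {U | Amp73.SpanAt F U.1} (fun x => ?_) fun U hU f => ?_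
  · obtain ⟨U, hx, hU, hsp⟩ := Amp73.spanAt_of_isQuasiAffine (F := F) (show Coh.IsQCoh F from inferInstanceAs F.IsQuasicoherent) x
    exact ⟨⟨U, hU⟩, hsp, hx⟩
  · have hmem : f ∈ Submodule.span Γ(X, U.1) (Set.range fun t : Γ(F, ⊤) => res F (le_top : U.1 ≤ ⊤) t) := by
      have h' : Submodule.span Γ(X, U.1) (Set.range fun t : Γ(F, ⊤) => res F (le_top : U.1 ≤ ⊤) t) = ⊤ := hU
      rw [h']
      exact Submodule.mem_top
    induction hmem using Submodule.span_induction with
    | mem t ht => obtain ⟨t, rfl⟩ := ht; rw [app_res, h, res_zero]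
    | zero => exact map_zero _
    | add a b _ _ ha hb => rw [map_add, ha, hb, add_zero]
    | smul r a _ ha => rw [Scheme.Modules.Hom.app_smul, ha, smul_zero]

variable {A : Type u} [CommRing A] [X.Over (Spec (CommRingCat.of A))]

/-- Bijectivity on global sections from compatible families. -/
theorem bijective_of_existsUnique {I : Ideal A} {M : X.Modules}
    (h : ∀ σ : ∀ n, Γ(Formal.modPow I (n + 1) M, (⊤ : X.Opens)),
      (∀ n, (Formal.modPowTrans I (n + 1) M).app ⊤ (σ (n + 1)) = σ n) →
      ∃! s : Γ(M, (⊤ : X.Opens)), ∀ n, (Formal.modPowπ I (n + 1) M).app ⊤ s = σ n) :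
    Function.Bijective (Formal.toHHlim I M 0) := by
  have key : ∀ (x : Coh.HH X M 0) n, h0 _ ((Formal.toHHlim I M 0 x : ∀ n, Formal.HHmodPow I M 0 n) n) =
      (Formal.modPowπ I (n + 1) M).app ⊤ (h0 M x) := fun x n => h0_map _ x
  have comp : ∀ (y : Formal.HHlim I M 0) n, (Formal.modPowTrans I (n + 1) M).app ⊤
      (h0 _ ((y : ∀ n, Formal.HHmodPow I M 0 n) (n + 1))) = h0 _ ((y : ∀ n, Formal.HHmodPow I M 0 n) n) :=
    fun y n => (h0_map _ _).symm.trans (congrArg (h0 _) (y.2 n))
  refine ⟨fun x x' e => (h0 M).injective ?_, fun y => ?_⟩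
  · exact (h (fun n => h0 _ ((Formal.toHHlim I M 0 x : ∀ n, Formal.HHmodPow I M 0 n) n))
      (comp (Formal.toHHlim I M 0 x))).unique (fun n => (key x n).symm)
      (fun n => ((congrArg (fun z : Formal.HHlim I M 0 => h0 _ ((z : ∀ n, Formal.HHmodPow I M 0 n) n)) e).trans
        (key x' n)).symm)
  · obtain ⟨s, hs, -⟩ := h (fun n => h0 _ ((y : ∀ n, Formal.HHmodPow I M 0 n) n)) (comp y)
    refine ⟨(h0 M).symm s, Subtype.ext (funext fun n => (h0 _).injective ?_)⟩
    rw [key, AddEquiv.apply_symm_apply]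
    exact hs n

/-- `M/I^n → N/I^n`. -/
def modPowMap (I : Ideal A) (n : ℕ) {M N : X.Modules} (φ : M ⟶ N) : Formal.modPow I n M ⟶ Formal.modPow I n N :=
  cokernel.desc _ (φ ≫ Formal.modPowπ I n N) (smulFamily_comp_eq_zero _ fun a ha => by
    rw [← Category.assoc, ← smulMod_comp φ a, Category.assoc, smulMod_modPowπ I n N ha, comp_zero])

theorem π_modPowMap (I : Ideal A) (n : ℕ) {M N : X.Modules} (φ : M ⟶ N) :
    Formal.modPowπ I n M ≫ modPowMap I n φ = φ ≫ Formal.modPowπ I n N :=
  cokernel.π_desc _ _ _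

instance isIso_modPowMap (I : Ideal A) (n : ℕ) {M N : X.Modules} (φ : M ⟶ N) [IsIso φ] :
    IsIso (modPowMap I n φ) :=
  ⟨modPowMap I n (inv φ), by
    refine ⟨(cancel_epi (Formal.modPowπ I n M)).1 ?_, (cancel_epi (Formal.modPowπ I n N)).1 ?_⟩ <;>
    rw [← Category.assoc, π_modPowMap, Category.assoc, π_modPowMap] <;> simp⟩

/-- A morphism into the structure module from compatible morphisms into its quotients. -/
theorem existsUnique_hom [X.IsQuasiAffine] {I : Ideal A}
    (h : Function.Bijective (Formal.toHHlim I (Coh.structureModule X) 0)) {F : X.Modules} [F.IsQuasicoherent]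
    (hFT : F.IsFiniteType) (φ : ∀ n, F ⟶ Formal.modPow I (n + 1) (Coh.structureModule X))
    (hφ : ∀ n, φ (n + 1) ≫ Formal.modPowTrans I (n + 1) (Coh.structureModule X) = φ n) :
    ∃! ψ : F ⟶ Coh.structureModule X, ∀ n, ψ ≫ Formal.modPowπ I (n + 1) (Coh.structureModule X) = φ n := by
  have inj : ∀ (G : X.Modules) (_ : G.IsQuasicoherent) (θ : G ⟶ Coh.structureModule X),
      (∀ n, θ ≫ Formal.modPowπ I (n + 1) (Coh.structureModule X) = 0) → θ = 0 := fun G _ θ hθ => by
    refine eq_zero_of_app_top θ fun g => ?_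
    exact (existsUnique_section h (fun _ => 0) fun n => map_zero _).unique
      (fun n => congrArg (fun ψ => (Scheme.Modules.Hom.app ψ ⊤) g) (hθ n)) fun n => map_zero _
  have hQ : Coh.IsQCoh F := inferInstanceAs F.IsQuasicoherent
  obtain ⟨k, p, hp⟩ := Amp73.exists_epi_freeMod hQ hFT (Amp73.spanAt_of_isQuasiAffine hQ)
  have hv : ∀ i : Fin k, ∃! v : Γ(Coh.structureModule X, (⊤ : X.Opens)), ∀ n,
      (Formal.modPowπ I (n + 1) (Coh.structureModule X)).app ⊤ v =
        (Sigma.ι (fun _ : Fin k => Coh.structureModule X) i ≫ p ≫ φ n).app ⊤ (oneSec X) := fun i =>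
    existsUnique_section h _ fun n => by rw [← hφ n]; rfl
  choose v hv _ using hv
  let θ : FlatMod.freeMod X k ⟶ Coh.structureModule X := Sigma.desc fun i => EGA73.unitHom _ (v i)
  have hθ : ∀ n, θ ≫ Formal.modPowπ I (n + 1) (Coh.structureModule X) = p ≫ φ n := fun n =>
    Sigma.hom_ext _ _ fun i => hom_ext_one (by
      rw [Sigma.ι_desc_assoc]
      refine Eq.trans ?_ (hv i n)
      exact congrArg ((Formal.modPowπ I (n + 1) (Coh.structureModule X)).app ⊤) (unitHom_one (v i)))
  haveI : (FlatMod.freeMod X k).IsQuasicoherent := Props58.Ext.isQuasicoherent_freeMod X k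
  have hker : kernel.ι p ≫ θ = 0 := inj _ (QC70.isQuasicoherent_kernel p) _ fun n => by
    rw [Category.assoc, hθ, kernel.condition_assoc, zero_comp]
  refine ⟨Abelian.epiDesc p θ hker, fun n => ?_, fun ψ hψ => ?_⟩
  · rw [← cancel_epi p, Abelian.comp_epiDesc_assoc, hθ]
  · refine sub_eq_zero.mp (inj F inferInstance _ fun n => ?_)
    rw [Preadditive.sub_comp, hψ n, sub_eq_zero, ← cancel_epi p, Abelian.comp_epiDesc_assoc, hθ]

theorem bijective_of_quasiAffine [IsLocallyNoetherian X] [X.IsQuasiAffine] {I : Ideal A}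
    (h : Function.Bijective (Formal.toHHlim I (Coh.structureModule X) 0)) {E : X.Modules}
    (hE : FlatMod.IsFinLocFree E) : Function.Bijective (Formal.toHHlim I E 0) := by
  refine bijective_of_existsUnique fun σ hσ => ?_
  have hF := isFinLocFree_dualMod hE
  haveI := isQuasicoherent_of_isFinLocFree hF
  have hO : FlatMod.IsFinLocFree (unitMod X) := isFinLocFree_unitMod
  haveI := isIso_bidual hE
  let O' : X.Modules := unitMod X
  let c : ∀ n, Formal.modPow I (n + 1) E ⟶ homMod (dualMod E) (Formal.modPow I (n + 1) O') := fun n =>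
    modPowMap I (n + 1) (bidual E) ≫
      homCmp I (n + 1) (dualMod E) O'
  have hπc : ∀ n, Formal.modPowπ I (n + 1) E ≫ c n = bidual E ≫ homMap (dualMod E) (Formal.modPowπ I (n + 1) O') :=
    fun n => by
      rw [← π_homCmp, ← Category.assoc, ← Category.assoc]
      exact congrArg (· ≫ homCmp I (n + 1) (dualMod E) O') (π_modPowMap I (n + 1) (bidual E))
  have hinj : ∀ n, Function.Injective ((c n).app ⊤) := fun n => by
    haveI := isIso_homCmp I (n + 1) hF hO
    haveI : IsIso (c n) := IsIso.comp_isIso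
    exact app_injective_of_mono (c n) ⊤
  have hcomm : ∀ n, Formal.modPowTrans I (n + 1) E ≫ c n =
      c (n + 1) ≫ homMap (dualMod E) (Formal.modPowTrans I (n + 1) O') := fun n => by
    refine (cancel_epi (Formal.modPowπ I (n + 1 + 1) E)).1 ?_
    refine ((Category.assoc _ _ _).symm.trans ((congrArg (· ≫ c n) (Formal.modPowπ_trans I (n + 1) E)).trans
      (hπc n))).trans (Eq.trans ?_ ((congrArg (· ≫ homMap (dualMod E) (Formal.modPowTrans I (n + 1) O'))
        (hπc (n + 1))).symm.trans (Category.assoc _ _ _)))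
    rw [Category.assoc, ← homMap_comp', Formal.modPowπ_trans]
  let φ : ∀ n, dualMod E ⟶ Formal.modPow I (n + 1) O' := fun n => (ofSec ((c n).app ⊤ (σ n))).toHom
  obtain ⟨ψ, hψ, hψu⟩ := existsUnique_hom h (isFiniteType_of_isFinLocFree hF) φ fun n =>
    Scheme.Modules.hom_ext _ _ fun W => by
      ext z
      have e : (homMap (dualMod E) (Formal.modPowTrans I (n + 1) O')).app ⊤ ((c (n + 1)).app ⊤ (σ (n + 1))) =
          (c n).app ⊤ (σ n) := by
        rw [← hσ n]
        exact (congrArg (fun χ => (Scheme.Modules.Hom.app χ ⊤) (σ (n + 1))) (hcomm n)).symm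
      exact congrArg (fun t : Γ(homMod (dualMod E) (Formal.modPow I (n + 1) O'), (⊤ : X.Opens)) =>
        (ofSec t).app W le_top z) e
  let τ : Γ(dualMod (dualMod E), (⊤ : X.Opens)) := (HomOn.ofHom ψ ⊤).toSec
  have hiff : ∀ (s : Γ(E, (⊤ : X.Opens))) n, (Formal.modPowπ I (n + 1) E).app ⊤ s = σ n ↔
      (ofSec ((bidual E).app ⊤ s)).toHom ≫ Formal.modPowπ I (n + 1) O' = φ n := fun s n => by
    rw [← (hinj n).eq_iff]
    have e : (c n).app ⊤ ((Formal.modPowπ I (n + 1) E).app ⊤ s) =
        (homMap (dualMod E) (Formal.modPowπ I (n + 1) O')).app ⊤ ((bidual E).app ⊤ s) :=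
      congrArg (fun χ => (Scheme.Modules.Hom.app χ ⊤) s) (hπc n)
    rw [e]
    refine ⟨fun e => ?_, fun e => HomOn.ext' fun W hW z =>
      congrArg (fun χ => (Scheme.Modules.Hom.app χ W) z) e⟩
    refine Scheme.Modules.hom_ext _ _ fun W => ?_
    ext z
    exact congrArg (fun t : Γ(homMod (dualMod E) (Formal.modPow I (n + 1) O'), (⊤ : X.Opens)) =>
      (ofSec t).app W le_top z) e
  have hi : ∀ t, (bidual E).app ⊤ ((inv (bidual E)).app ⊤ t) = t := fun t =>
    congrArg (fun χ => (Scheme.Modules.Hom.app χ ⊤) t) (IsIso.inv_hom_id (bidual E))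
  refine ⟨(inv (bidual E)).app ⊤ τ, fun n => (hiff _ n).mpr ?_, fun s hs => ?_⟩
  · rw [hi, show (ofSec τ).toHom = ψ from Scheme.Modules.hom_ext _ _ fun W => rfl]
    exact hψ n
  · have e : (ofSec ((bidual E).app ⊤ s)).toHom = ψ := hψu _ fun n => (hiff s n).mp (hs n)
    refine app_injective_of_mono (bidual E) ⊤ ((HomOn.ext' fun W hW z => ?_).trans (hi τ).symm)
    exact congrArg (fun χ => (Scheme.Modules.Hom.app χ W) z) e

end Groth.Agent.Formal27
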