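import Groth.Agent.Formal27.Affine
import Groth.Agent.Coh69.AffVanish

/-!
Limits of towers of quasi-coherent modules with epimorphic transition maps.
-/

set_option autoImplicit false

universe u

open CategoryTheory CategoryTheory.Limits AlgebraicGeometry Opposite TopologicalSpace

noncomputable section

namespace Groth.Agent.Formal27

variable {X : Scheme.{u}} (G : ℕᵒᵖ ⥤ X.Modules)

/-- Sections of modules, as sets. -/
abbrev sectSet (V : X.Opens) : X.Modules ⥤ Type u := QC70.sectionsFunctor X V ⋙ forget AddCommGrpCat

instance (V : X.Opens) : PreservesLimitsOfShape ℕᵒᵖ (sectSet (X := X) V) := by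
  have : PreservesLimitsOfShape ℕᵒᵖ ((evaluation (Opens X)ᵒᵖ AddCommGrpCat.{u}).obj (op V)) :=
    evaluation_preservesLimitsOfShape _
  have : PreservesLimitsOfSize.{0, 0} (Scheme.Modules.toPresheaf X) := preservesLimitsOfSize_shrink _
  have : PreservesLimitsOfShape ℕᵒᵖ (Scheme.Modules.toPresheaf X) := inferInstance
  have : PreservesLimitsOfShape ℕᵒᵖ (QC70.sectionsFunctor X V) :=
    comp_preservesLimitsOfShape (Scheme.Modules.toPresheaf X) _
  exact comp_preservesLimitsOfShape (QC70.sectionsFunctor X V) _

/-- The transition map. -/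
abbrev tr (n : ℕ) : G.obj (op (n + 1)) ⟶ G.obj (op n) := G.map (homOfLE (Nat.le_succ n)).op

theorem π_tr (n : ℕ) : limit.π G (op (n + 1)) ≫ tr G n = limit.π G (op n) := limit.w G _

theorem π_tr_app (n : ℕ) {V : X.Opens} (s : Γ(limit G, V)) :
    (tr G n).app V ((limit.π G (op (n + 1))).app V s) = (limit.π G (op n)).app V s := by
  conv_rhs => rw [← π_tr G n]
  rfl

theorem lim_ext {V : X.Opens} {s t : Γ(limit G, V)}
    (h : ∀ n : ℕ, (limit.π G (op n)).app V s = (limit.π G (op n)).app V t) : s = t :=
  (Types.isLimitEquivSections (isLimitOfPreserves (sectSet V) (limit.isLimit G))).injective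
    (Subtype.ext (funext fun j => h j.unop))

theorem exists_lim {V : X.Opens} (x : ∀ n, Γ(G.obj (op n), V))
    (hx : ∀ n, (tr G n).app V (x (n + 1)) = x n) :
    ∃ s : Γ(limit G, V), ∀ n : ℕ, (limit.π G (op n)).app V s = x n := by
  have hsec : ∀ {n m : ℕ} (h : n ≤ m), (G.map (homOfLE h).op).app V (x m) = x n := by
    intro n m h
    induction m, h using Nat.le_induction with
    | base =>
      rw [show (homOfLE (le_refl n)).op = 𝟙 (op n) from rfl, G.map_id]
      rfl
    | succ m h ih =>
      rw [show (homOfLE (h.trans (Nat.le_succ m))).op = (homOfLE (Nat.le_succ m)).op ≫ (homOfLE h).op from rfl,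
        G.map_comp]
      change (G.map (homOfLE h).op).app V ((tr G m).app V (x (m + 1))) = x n
      rw [hx, ih]
  let e := Types.isLimitEquivSections (isLimitOfPreserves (sectSet V) (limit.isLimit G))
  let z : (G ⋙ sectSet V).sections := ⟨fun j => x j.unop, fun {i j} f => by
    have : f = (homOfLE (leOfHom f.unop)).op := Subsingleton.elim _ _
    rw [this]
    exact hsec _⟩
  refine ⟨e.symm z, fun n => ?_⟩
  exact congrFun (congrArg Subtype.val (e.apply_symm_apply z)) (op n)

/-- Restriction to an open commutes with limits of towers. -/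
theorem isIso_post_restrict (U : X.Opens) : IsIso (limit.post G (Scheme.Modules.restrictFunctor U.ι)) := by
  rw [Scheme.Modules.Hom.isIso_iff_isIso_app]
  intro W
  rw [ConcreteCategory.isIso_iff_bijective]
  let R := Scheme.Modules.restrictFunctor U.ι
  have key : ∀ (k : ℕ) (s : Γ(R.obj (limit G), W)),
      (limit.π (G ⋙ R) (op k)).app W ((limit.post G R).app W s) = (R.map (limit.π G (op k))).app W s := fun k s => by
    rw [← limit.post_π G R]
    rfl
  constructor
  · intro s t h
    refine lim_ext G (V := U.ι ''ᵁ W) fun k => ?_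
    have e := congrArg ((limit.π (G ⋙ R) (op k)).app W) h
    rw [key, key] at e
    exact e
  · intro y
    obtain ⟨s, hs⟩ := exists_lim G (V := U.ι ''ᵁ W) (fun k => (limit.π (G ⋙ R) (op k)).app W y)
      fun k => π_tr_app (G ⋙ R) k y
    exact ⟨s, lim_ext (G ⋙ R) fun k => (key k s).trans (hs k)⟩

variable (hq : ∀ n : ℕ, (G.obj (op n)).IsQuasicoherent) (he : ∀ n, Epi (tr G n))

include hq he in
theorem tr_app_surjective (n : ℕ) {V : X.Opens} (hV : IsAffineOpen V) :
    Function.Surjective ((tr G n).app V) := by
  haveI := hq n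
  haveI := hq (n + 1)
  haveI := he n
  let S := ShortComplex.mk (kernel.ι (tr G n)) (tr G n) (kernel.condition _)
  have hS : S.ShortExact :=
    { exact := ShortComplex.exact_of_f_is_kernel _ (kernelIsKernel _)
      mono_f := (inferInstance : Mono (kernel.ι _))
      epi_g := he n }
  haveI : S.X₁.IsQuasicoherent := QC70.isQuasicoherent_kernel (tr G n)
  exact QC70.app_surjective_of_isAffineOpen S hS hV

include hq he in
/-- Every section over an affine open lifts to the limit. -/
theorem π_app_surjective (n : ℕ) {V : X.Opens} (hV : IsAffineOpen V) :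
    Function.Surjective ((limit.π G (op n)).app V) := by
  intro y
  choose s hs using fun k => tr_app_surjective G hq he k hV
  let up : ∀ j, Γ(G.obj (op (n + j)), V) := fun j =>
    Nat.rec (motive := fun j => Γ(G.obj (op (n + j)), V)) y (fun j p => s (n + j) p) j
  obtain ⟨t, ht⟩ := exists_lim G
    (fun k => (G.map (homOfLE (Nat.le_add_left k n)).op).app V (up k)) fun k => by
      rw [show up (k + 1) = s (n + k) (up k) from rfl]
      have e1 : (tr G k).app V ((G.map (homOfLE (Nat.le_add_left (k + 1) n)).op).app V (s (n + k) (up k))) =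
          (G.map (homOfLE (Nat.le_add_left k n)).op).app V ((tr G (n + k)).app V (s (n + k) (up k))) := by
        have : G.map (homOfLE (Nat.le_add_left (k + 1) n)).op ≫ tr G k =
            tr G (n + k) ≫ G.map (homOfLE (Nat.le_add_left k n)).op := by
          rw [tr, tr, ← G.map_comp, ← G.map_comp]
          rfl
        exact congrArg (fun φ => (Scheme.Modules.Hom.app φ V) (s (n + k) (up k))) this
      rw [e1, hs]
  have key : ∀ j, (G.map (homOfLE (Nat.le_add_right n j)).op).app V (up j) = y := by
    intro j
    induction j with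
    | zero =>
      rw [show (homOfLE (Nat.le_add_right n 0)).op = 𝟙 (op n) from rfl]
      erw [G.map_id]
      rfl
    | succ j ih =>
      rw [show (homOfLE (Nat.le_add_right n (j + 1))).op =
        (homOfLE (Nat.le_succ (n + j))).op ≫ (homOfLE (Nat.le_add_right n j)).op from rfl, G.map_comp]
      change (G.map (homOfLE (Nat.le_add_right n j)).op).app V ((tr G (n + j)).app V (s (n + j) (up j))) = y
      rw [hs, ih]
  exact ⟨t, (ht n).trans (key n)⟩

open Coh69

include hq he in
theorem cechAcyclic_limit {ι : Type u} [Finite ι] {W : X.Opens} (hW : IsAffineOpen W) (f : ι → Γ(X, W))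
    (hf : Ideal.span (Set.range f) = ⊤) :
    CechAcyclic (fun i => X.basicOpen (f i)) (Coh.toAb (limit G)).obj := by
  let U := fun i => X.basicOpen (f i)
  intro n c hc
  have hlev : ∀ k, CechAcyclic U (G.obj (op k)).presheaf := fun k => by
    haveI := hq k
    exact cechAcyclic_standard (G.obj (op k)) hW hf
  let t : ∀ k, (G.obj (op (k + 1))).presheaf ⟶ (G.obj (op k)).presheaf := fun k => (tr G k).mapPresheaf
  let p : ∀ k : ℕ, (Coh.toAb (limit G)).obj ⟶ (G.obj (op k)).presheaf := fun k =>
    (limit.π G (op k)).mapPresheaf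
  have hp : ∀ k, cmap U (t k) (n + 1) (cmap U (p (k + 1)) (n + 1) c) = cmap U (p k) (n + 1) c := fun k =>
    funext fun i => π_tr_app G k (c i)
  have hz : ∀ k, cd U _ (n + 1) (cmap U (p k) (n + 1) c) = 0 := fun k => by
    rw [cd_cmap, hc, map_zero]
  have hlift : ∀ k, ∀ r : {r : Cochain U (G.obj (op k)).presheaf n // cd U _ n r = cmap U (p k) (n + 1) c},
      ∃ r' : {r : Cochain U (G.obj (op (k + 1))).presheaf n // cd U _ n r = cmap U (p (k + 1)) (n + 1) c},
        cmap U (t k) n r'.1 = r.1 := by
    intro k r
    obtain ⟨a, ha⟩ := hlev (k + 1) n (cmap U (p (k + 1)) (n + 1) c) (hz (k + 1))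
    have hcy : cd U _ n (cmap U (t k) n a - r.1) = 0 := by
      rw [map_sub, cd_cmap, ha, hp, r.2, sub_self]
    -- the cocycle lifts to a cocycle
    have hcoc : ∃ b, cd U _ n b = 0 ∧ cmap U (t k) n b = cmap U (t k) n a - r.1 := by
      cases n with
      | succ n =>
        obtain ⟨e, he'⟩ := hlev k n _ hcy
        have hsur : ∀ i : Fin (n + 1) → ι, ∃ e', (t k).app (op (cOpen U i)) e' = e i := fun i =>
          tr_app_surjective G hq he k (isAffineOpen_cOpen f hW i) (e i)
        choose e' he'' using hsur
        refine ⟨cd U _ n e', by rw [cd_cd], ?_⟩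
        rw [← cd_cmap, show cmap U (t k) n e' = e from funext he'', he']
      | zero =>
        let z := cmap U (t k) 0 a - r.1
        have hle : ∀ i : Fin 1 → ι, cOpen U i ≤ W := fun i => (cOpen_le U i 0).trans (X.basicOpen_le _)
        obtain ⟨T, hT⟩ := sheaf_glue (Coh.toAb (G.obj (op k))) (fun i : Fin 1 → ι => cOpen U i) (V := W)
          (fun x hx => by
            have hx' : x ∈ ⨆ g : (Set.range f : Set Γ(X, W)), X.basicOpen (g : Γ(X, W)) :=
              (hW.iSup_basicOpen_eq_self_iff.mpr hf).ge hx
            obtain ⟨⟨_, i, rfl⟩, hi⟩ := Opens.mem_iSup.mp hx'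
            exact Opens.mem_iSup.mpr ⟨fun _ => i, (mem_cOpen U _ x).2 fun _ => hi⟩)
          hle z fun a b => by
            have hW' : cOpen U a ⊓ cOpen U b ≤ cOpen U ![a 0, b 0] := le_cOpen U fun j => by
              fin_cases j
              · exact inf_le_left.trans (cOpen_le U a 0)
              · exact inf_le_right.trans (cOpen_le U b 0)
            have h0 := congrArg (res (G.obj (op k)).presheaf hW') (congrFun hcy ![a 0, b 0])
            rw [cd_apply, map_sum, Pi.zero_apply, map_zero, Fin.sum_univ_two] at h0
            simp only [map_zsmul, res_res, Fin.val_zero, pow_zero, one_smul, Fin.val_one, pow_one,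
              neg_smul] at h0
            simp only [map_neg, res_res] at h0
            rw [← sub_eq_add_neg, sub_eq_zero] at h0
            have ea : (![a 0, b 0] ∘ (1 : Fin 2).succAbove) = a := funext fun j => by fin_cases j; rfl
            have eb : (![a 0, b 0] ∘ (0 : Fin 2).succAbove) = b := funext fun j => by fin_cases j; rfl
            rw [cochain_congr U _ z ea, cochain_congr U _ z eb] at h0
            exact h0.symm
        obtain ⟨T', hT'⟩ := tr_app_surjective G hq he k hW T
        refine ⟨fun i => res (G.obj (op (k + 1))).presheaf (hle i) T', funext fun i => ?_, funext fun i => ?_⟩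
        · rw [cd_apply, Fin.sum_univ_two]
          simp only [Fin.val_zero, pow_zero, one_smul, Fin.val_one, pow_one, neg_smul, res_res,
            add_neg_cancel, Pi.zero_apply]
        · change (t k).app _ _ = _
          rw [hom_res]
          exact (congrArg _ hT').trans (hT i)
    obtain ⟨b, hb, hbt⟩ := hcoc
    exact ⟨⟨a - b, by rw [map_sub, ha, hb, sub_zero]⟩, by
      change cmap U (t k) n (a - b) = r.1
      rw [map_sub, hbt, sub_sub_cancel]⟩
  choose step hstep using hlift
  obtain ⟨r₀, hr₀⟩ := hlev 0 n (cmap U (p 0) (n + 1) c) (hz 0)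
  let r : ∀ k, {r : Cochain U (G.obj (op k)).presheaf n // cd U _ n r = cmap U (p k) (n + 1) c} := fun k =>
    Nat.rec (motive := fun k => {r : Cochain U (G.obj (op k)).presheaf n // cd U _ n r = cmap U (p k) (n + 1) c})
      ⟨r₀, hr₀⟩ (fun k q => step k q) k
  have hsec : ∀ i : Fin (n + 1) → ι, ∃ s : Γ(limit G, cOpen U i),
      ∀ k : ℕ, (limit.π G (op k)).app _ s = (r k).1 i := fun i =>
    exists_lim G _ fun k => congrFun (hstep k (r k)) i
  choose s hs using hsec
  refine ⟨s, funext fun i => lim_ext G fun k => ?_⟩
  have := congrFun (r k).2 i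
  rw [← show cmap U (p k) n s = (r k).1 from funext fun j => hs j k, cd_cmap] at this
  exact this

include hq he in
/-- Higher cohomology of the limit on affine opens vanishes. -/
theorem subsingleton_HE_limit {V : X.Opens} (hV : IsAffineOpen V) (n : ℕ) :
    Subsingleton (HE (Coh.toAb (limit G)) (n + 1) V) :=
  (affineCartan X).subsingleton_HE n (Coh.toAb (limit G)) (by
    rintro ι U ⟨W, f, hW, hι, hf, rfl⟩
    exact cechAcyclic_limit G hq he hW f hf) V hV

end Groth.Agent.Formal27
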