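import Groth.Agent.Formal27.TorsHom
import Groth.Agent.Formal27.LimAcyclic
import Groth.Agent.QC70.HomLocFree
import Groth.Agent.Props58.LocFree.Criteria

/-!
`𝓗om` of finite locally free modules and maps of completions.
-/

set_option autoImplicit false
set_option backward.isDefEq.respectTransparency.types false

universe u

open CategoryTheory CategoryTheory.Limits AlgebraicGeometry Opposite TopologicalSpace

noncomputable section

namespace Groth.Agent.Formal27

open Props58.LocFree QC70

variable {X : Scheme.{u}}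

/-- A family whose combinations are all sections, uniquely, has germs forming bases. -/
theorem stalkBasis_of_bijective {M : X.Modules} {U : X.Opens} {n : ℕ} {s : Fin n → Γ(M, U)}
    (h : ∀ (W : X.Opens) (hW : W ≤ U),
      Function.Bijective fun a : Fin n → Γ(X, W) => ∑ i, a i • res M hW (s i)) : StalkBasis s := by
  intro y hy
  refine ⟨fun c c' e => ?_, fun e => ?_⟩
  · obtain ⟨W, hWU, hyW, a, ha⟩ := exists_common_lift hy c
    obtain ⟨W', hW'U, hyW', a', ha'⟩ := exists_common_lift hy c'
    let V := W ⊓ W'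
    have hyV : y ∈ V := ⟨hyW, hyW'⟩
    have e2 : ∀ i, X.presheaf.germ V y hyV (resO X (inf_le_left : V ≤ W) (a i)) = c i := fun i => by
      rw [germ_resO]; exact ha i
    have e2' : ∀ i, X.presheaf.germ V y hyV (resO X (inf_le_right : V ≤ W') (a' i)) = c' i := fun i => by
      rw [germ_resO]; exact ha' i
    obtain ⟨Z, hZV, hyZ, hZ⟩ := exists_comb_eq (inf_le_left.trans hWU : V ≤ U)
      (fun i => resO X (inf_le_left : V ≤ W) (a i))
      (∑ i, resO X (inf_le_right : V ≤ W') (a' i) • res M (inf_le_left.trans hWU : V ≤ U) (s i)) hyV (by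
        rw [funext e2, germ_comb, funext e2']
        exact e)
    rw [res_sum] at hZ
    simp only [res_smul, res_res] at hZ
    have e3 := congrFun ((h Z _).1 hZ)
    funext i
    rw [← e2 i, ← e2' i, ← germ_resO hZV hyZ, ← germ_resO hZV hyZ, e3 i]
  · obtain ⟨W, hyW, z, rfl⟩ := germM_exist e
    obtain ⟨a, ha⟩ := (h (W ⊓ U) inf_le_right).2 (res M inf_le_left z)
    refine ⟨fun i => X.presheaf.germ (W ⊓ U) y ⟨hyW, hy⟩ (a i), ?_⟩
    rw [← germ_comb s (inf_le_right : W ⊓ U ≤ U) a y ⟨hyW, hy⟩]
    refine (congrArg (germM M (W ⊓ U) y ⟨hyW, hy⟩) ha).trans ?_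
    rw [germM_res]

/-- Values on a basis determine a local morphism. -/
theorem homOn_ext_basis {E G : X.Modules} {U : X.Opens} {n : ℕ} {s : Fin n → Γ(E, U)} (hs : StalkBasis s)
    {W : X.Opens} (hW : W ≤ U) {φ φ' : HomOn E G W}
    (h : ∀ i, φ.app W le_rfl (res E hW (s i)) = φ'.app W le_rfl (res E hW (s i))) : φ = φ' := by
  refine HomOn.ext' fun Z hZ z => ?_
  obtain ⟨a, rfl⟩ := hs.exists_comb (hZ.trans hW) z
  simp only [map_sum, map_smul]
  refine Finset.sum_congr rfl fun i _ => ?_
  congr 1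
  rw [← res_res hW hZ, φ.app_res le_rfl hZ, φ'.app_res le_rfl hZ, h i]

theorem homOn_sum_app {E G : X.Modules} {W Z : X.Opens} (hZ : Z ≤ W) {ι : Type*} (t : Finset ι)
    (φ : ι → HomOn E G W) (z : Γ(E, Z)) :
    (∑ i ∈ t, φ i).app Z hZ z = ∑ i ∈ t, (φ i).app Z hZ z := by
  classical
  induction t using Finset.induction_on with
  | empty => rw [Finset.sum_empty, Finset.sum_empty]; rfl
  | insert a t ha ih => rw [Finset.sum_insert ha, Finset.sum_insert ha, ← ih]; rfl

theorem ofBasis_app_basis {E G : X.Modules} {U : X.Opens} {n : ℕ} {s : Fin n → Γ(E, U)} (hs : StalkBasis s)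
    (t : Fin n → Γ(G, U)) {W : X.Opens} (hW : W ≤ U) (i : Fin n) :
    (HomOn.ofBasis hs t).app W hW (res E hW (s i)) = res G hW (t i) := by
  classical
  have h := HomOn.ofBasis_app_comb hs t hW (fun j => if j = i then 1 else 0)
  simpa [ite_smul] using h

theorem isFinLocFree_homMod {E E' : X.Modules} (hE : FlatMod.IsFinLocFree E) (hE' : FlatMod.IsFinLocFree E') :
    FlatMod.IsFinLocFree (homMod E E') := by
  classical
  rw [isFinLocFree_iff]
  intro x
  obtain ⟨U₁, m, s, hx₁, hs⟩ := isFinLocFree_iff.mp hE x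
  obtain ⟨U₂, l, t, hx₂, ht⟩ := isFinLocFree_iff.mp hE' x
  let U := U₁ ⊓ U₂
  have hs' := hs.restrict (inf_le_left : U ≤ U₁)
  have ht' := ht.restrict (inf_le_right : U ≤ U₂)
  let e : Fin (m * l) → Γ(homMod E E', U) := fun q =>
    (HomOn.ofBasis hs' (fun i => if i = (finProdFinEquiv.symm q).1 then
      res E' (inf_le_right : U ≤ U₂) (t (finProdFinEquiv.symm q).2) else 0)).toSec
  refine ⟨U, m * l, e, ⟨hx₁, hx₂⟩, stalkBasis_of_bijective fun W hW => ?_⟩
  have key : ∀ (a : Fin (m * l) → Γ(X, W)) (i : Fin m),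
      (ofSec (∑ q, a q • res (homMod E E') hW (e q))).app W le_rfl
        (res E hW (res E (inf_le_left : U ≤ U₁) (s i))) =
      ∑ j, a (finProdFinEquiv (i, j)) • res E' hW (res E' (inf_le_right : U ≤ U₂) (t j)) := fun a i => by
    refine (homOn_sum_app le_rfl _ (fun q => a q • ofSec (res (homMod E E') hW (e q))) _).trans ?_
    have h1 : ∀ q, (a q • ofSec (res (homMod E E') hW (e q))).app W le_rfl
        (res E hW (res E (inf_le_left : U ≤ U₁) (s i))) =
        if i = (finProdFinEquiv.symm q).1 then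
          a q • res E' hW (res E' (inf_le_right : U ≤ U₂) (t (finProdFinEquiv.symm q).2)) else 0 := fun q => by
      rw [HomOn.smul_app, homMod_res_app, resO_self]
      refine (congrArg (a q • ·) (ofBasis_app_basis hs' _ hW i)).trans ?_
      split_ifs
      · rfl
      · rw [res_zero, smul_zero]
    simp only [h1]
    rw [← finProdFinEquiv.sum_comp]
    simp only [Equiv.symm_apply_apply, Fintype.sum_prod_type]
    rw [Finset.sum_eq_single i (fun b _ hb => by simp [Ne.symm hb]) (by simp)]
    simp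
  refine ⟨fun a a' h => funext fun q => ?_, fun φ => ?_⟩
  · have h' := congrArg (fun φ : Γ(homMod E E', W) => (ofSec φ).app W le_rfl
      (res E hW (res E (inf_le_left : U ≤ U₁) (s (finProdFinEquiv.symm q).1)))) h
    simp only [key] at h'
    have := congrFun (ht'.eq_of_comb hW h') (finProdFinEquiv.symm q).2
    have e : finProdFinEquiv ((finProdFinEquiv.symm q).1, (finProdFinEquiv.symm q).2) = q :=
      finProdFinEquiv.apply_symm_apply q
    rwa [e] at this
  · choose c hc using fun i => ht'.exists_comb hW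
      ((ofSec φ).app W le_rfl (res E hW (res E (inf_le_left : U ≤ U₁) (s i))))
    refine ⟨fun q => c (finProdFinEquiv.symm q).1 (finProdFinEquiv.symm q).2,
      homOn_ext_basis hs' hW fun i => ?_⟩
    refine (key _ i).trans ?_
    simp only [Equiv.symm_apply_apply]
    exact hc i

variable {A : Type u} [CommRing A] [X.Over (Spec (CommRingCat.of A))]

/-- `𝓗om(E, G)/I^n → 𝓗om(E, G/I^n)`. -/
def homCmp (I : Ideal A) (n : ℕ) (E G : X.Modules) :
    Formal.modPow I n (homMod E G) ⟶ homMod E (Formal.modPow I n G) :=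
  cokernel.desc _ (homMap E (Formal.modPowπ I n G)) (smulFamily_comp_eq_zero _ fun a ha =>
    Scheme.Modules.hom_ext _ _ fun W => by
      ext φ
      refine HomOn.ext' fun Z hZ z => ?_
      change (Formal.modPowπ I n G).app Z (resO X hZ (gi A X W a) • (ofSec φ).app Z hZ z) = 0
      rw [res_gi]
      exact modPowπ_app_smul ha _)

theorem π_homCmp (I : Ideal A) (n : ℕ) (E G : X.Modules) :
    Formal.modPowπ I n (homMod E G) ≫ homCmp I n E G = homMap E (Formal.modPowπ I n G) :=
  cokernel.π_desc _ _ _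

theorem isIso_homCmp [IsLocallyNoetherian X] (I : Ideal A) (n : ℕ) {E G : X.Modules}
    (hE : FlatMod.IsFinLocFree E) (hG : FlatMod.IsFinLocFree G) : IsIso (homCmp I n E G) := by
  classical
  haveI := isQuasicoherent_of_isFinLocFree hG
  have hloc : ∀ (U : X.Opens) (p : X), p ∈ U → ∃ (V : X.Opens) (_ : V ≤ U) (m : ℕ) (s : Fin m → Γ(E, V)),
      IsAffineOpen V ∧ p ∈ V ∧ StalkBasis s := fun U p hp => by
    obtain ⟨U₁, m, s, hp₁, hs⟩ := isFinLocFree_iff.mp hE p
    obtain ⟨V, hV, hpV, hVU⟩ := X.isBasis_affineOpens.exists_subset_of_mem_open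
      (show p ∈ U ⊓ U₁ from ⟨hp, hp₁⟩) (U ⊓ U₁).isOpen
    obtain ⟨V, hV', rfl⟩ := hV
    have hVU' : V ≤ U ⊓ U₁ := hVU
    exact ⟨V, hVU'.trans inf_le_left, m, _, hV', hpV, hs.restrict (hVU'.trans inf_le_right)⟩
  have happ : ∀ (V : X.Opens) (φ : Γ(homMod E G, V)),
      (homCmp I n E G).app V ((Formal.modPowπ I n (homMod E G)).app V φ) =
        (homMap E (Formal.modPowπ I n G)).app V φ := fun V φ => by
    rw [← π_homCmp]; rfl
  haveI : Epi (homCmp I n E G) := by
    refine epi_of_locally_surjective _ fun U σ p hp => ?_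
    obtain ⟨V, hVU, m, s, hV, hpV, hs⟩ := hloc U p hp
    choose g hg using fun i => modPowπ_app_surjective (M := G) I n hV
      ((ofSec σ).app V hVU (s i))
    refine ⟨V, hVU, (Formal.modPowπ I n (homMod E G)).app V (HomOn.ofBasis hs g).toSec, hpV, ?_⟩
    rw [happ]
    refine homOn_ext_basis hs le_rfl fun i => ?_
    simp only [homMap_app_app, homMod_res_app]
    rw [ofBasis_app_basis hs g le_rfl i, res_self, res_self, hg]
  haveI : Mono (homCmp I n E G) := by
    refine mono_of_app_injective _ fun U => (injective_iff_map_eq_zero _).2 fun y hy =>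
      section_ext _ _ _ fun p hp => ?_
    obtain ⟨W, hWU, φ, hpW, hφ⟩ := exists_local_lift (Formal.modPowπ I n (homMod E G)) y hp
    obtain ⟨V, hVW, m, s, hV, hpV, hs⟩ := hloc W p hpW
    have hφV : (Formal.modPowπ I n (homMod E G)).app V (res _ hVW φ) = res _ (hVW.trans hWU) y := by
      rw [app_res, hφ, res_res]
    refine ⟨V, hVW.trans hWU, hpV, ?_⟩
    rw [res_zero, ← hφV]
    let ψ : HomOn E G V := ofSec (res _ hVW φ)
    have h0 : (homMap E (Formal.modPowπ I n G)).app V ψ.toSec = 0 := by
      rw [← happ]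
      change (homCmp I n E G).app V ((Formal.modPowπ I n (homMod E G)).app V (res _ hVW φ)) = 0
      rw [hφV, app_res, hy, res_zero]
    have hval : ∀ i, ψ.app V le_rfl (s i) ∈ IM G (I ^ n) V := fun i => by
      refine (modPowπ_app_eq_zero_iff hV _).mp ?_
      exact (homMap_app_app (Formal.modPowπ I n G) ψ.toSec le_rfl (s i)).symm.trans
        (congrArg (fun σ : Γ(homMod E (Formal.modPow I n G), V) => (ofSec σ).app V le_rfl (s i)) h0)
    have hψ : ψ = ∑ i, HomOn.ofBasis hs (fun j => if j = i then ψ.app V le_rfl (s i) else 0) :=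
      homOn_ext_basis hs le_rfl fun j => by
        rw [homOn_sum_app]
        refine Eq.trans ?_ (Finset.sum_congr rfl fun i _ => ((ofBasis_app_basis hs _ le_rfl j).trans (res_self _)).symm)
        rw [Finset.sum_eq_single j (fun b _ hb => if_neg (Ne.symm hb)) (fun h => absurd (Finset.mem_univ _) h), if_pos rfl, res_self]
    refine modPowπ_app_eq_zero_of_mem ?_
    change ψ.toSec ∈ IM (homMod E G) (I ^ n) V
    rw [hψ]
    refine Submodule.sum_mem _ fun i _ => ?_
    refine IM_induction (p := fun v => ((HomOn.ofBasis hs fun j => if j = i then v else 0).toSec : Γ(homMod E G, V)) ∈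
      IM (homMod E G) (I ^ n) V) (hval i) (fun a ha v => ?_) ?_ fun v w hv hw => ?_
    · have e : (HomOn.ofBasis hs fun j => if j = i then gi A X V a • v else 0) =
          gi A X V a • HomOn.ofBasis hs fun j => if j = i then v else 0 :=
        homOn_ext_basis hs le_rfl fun j => by
          rw [HomOn.smul_app, resO_self, ofBasis_app_basis, ofBasis_app_basis, res_self, res_self]
          split_ifs <;> simp
      rw [e]
      exact smul_mem_IM ha ((HomOn.ofBasis hs fun j => if j = i then v else 0).toSec : Γ(homMod E G, V))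
    · have e : (HomOn.ofBasis hs fun j => if j = i then (0 : Γ(G, V)) else 0) = 0 :=
        homOn_ext_basis hs le_rfl fun j => by
          rw [ofBasis_app_basis, res_self]
          simp [HomOn.zero_app]
      rw [e]
      exact zero_mem _
    · have e : (HomOn.ofBasis hs fun j => if j = i then v + w else 0) =
          (HomOn.ofBasis hs fun j => if j = i then v else 0) + HomOn.ofBasis hs fun j => if j = i then w else 0 :=
        homOn_ext_basis hs le_rfl fun j => by
          rw [HomOn.add_app, LinearMap.add_apply, ofBasis_app_basis, ofBasis_app_basis, ofBasis_app_basis,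
            res_self, res_self, res_self]
          split_ifs <;> simp
      rw [e]
      exact add_mem hv hw
  exact isIso_of_mono_of_epi _

omit [X.Over (Spec (CommRingCat.of A))] in
theorem homMap_comp' {E G₁ G₂ G₃ : X.Modules} (a : G₁ ⟶ G₂) (b : G₂ ⟶ G₃) :
    homMap E (a ≫ b) = homMap E a ≫ homMap E b := (homFunctor E).map_comp a b

/-- Degree zero cohomology as global sections. -/
def h0 (M : X.Modules) : Coh.HH X M 0 ≃+ Γ(M, (⊤ : X.Opens)) :=
  Sheaf.H.equiv₀ ((SheafOfModules.toSheaf _).obj M) (isTerminalTop (α := X.Opens))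

theorem h0_map {M N : X.Modules} (φ : M ⟶ N) (x : Coh.HH X M 0) :
    h0 N (Sheaf.H.map ((SheafOfModules.toSheaf _).map φ) 0 x) = φ.app ⊤ (h0 M x) :=
  (Sheaf.H.equiv₀_naturality (isTerminalTop (α := X.Opens)) ((SheafOfModules.toSheaf _).map φ) x).symm

/-- Compatible families of global sections of `M/I^(n+1)M` come from unique global sections. -/
theorem existsUnique_section {I : Ideal A} {M : X.Modules} (h : Function.Bijective (Formal.toHHlim I M 0))
    (σ : ∀ n, Γ(Formal.modPow I (n + 1) M, (⊤ : X.Opens)))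
    (hσ : ∀ n, (Formal.modPowTrans I (n + 1) M).app ⊤ (σ (n + 1)) = σ n) :
    ∃! s : Γ(M, (⊤ : X.Opens)), ∀ n, (Formal.modPowπ I (n + 1) M).app ⊤ s = σ n := by
  let y : Formal.HHlim I M 0 := ⟨fun n => (h0 _).symm (σ n), fun n => (h0 _).injective
    ((h0_map _ _).trans ((congrArg _ ((h0 _).apply_symm_apply _)).trans
      ((hσ n).trans ((h0 _).apply_symm_apply _).symm)))⟩
  obtain ⟨x, hx⟩ := h.2 y
  refine ⟨h0 M x, fun n => ?_, fun s hs => ?_⟩
  · have hn := congrArg (fun z : Formal.HHlim I M 0 => h0 _ ((z : ∀ n, Formal.HHmodPow I M 0 n) n)) hx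
    exact ((h0_map _ x).symm.trans hn).trans ((h0 _).apply_symm_apply _)
  · have : (h0 M).symm s = x := h.1 (Subtype.ext (funext fun n => (h0 _).injective (by
      have hn := congrArg (fun z : Formal.HHlim I M 0 => h0 _ ((z : ∀ n, Formal.HHmodPow I M 0 n) n)) hx
      refine Eq.trans ?_ hn.symm
      refine (h0_map _ _).trans ?_
      rw [AddEquiv.apply_symm_apply, hs n]
      exact ((h0 _).apply_symm_apply _).symm)))
    rw [← this, AddEquiv.apply_symm_apply]

/-- Full faithfulness from the algebraization of sections of all finite locally free modules. -/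
theorem existsUnique_of_sections [IsLocallyNoetherian X] {I : Ideal A} {E E' : X.Modules}
    (hE : FlatMod.IsFinLocFree E) (hE' : FlatMod.IsFinLocFree E')
    (h : Function.Bijective (Formal.toHHlim I (homMod E E') 0))
    (ψ : Formal.completion I E ⟶ Formal.completion I E') :
    ∃! φ : E ⟶ E', ∀ n : ℕ, Formal.modPowπ I (n + 1) E ≫ ψ.app (op n) = φ ≫ Formal.modPowπ I (n + 1) E' := by
  let y : ∀ n, E ⟶ Formal.modPow I (n + 1) E' := fun n => Formal.modPowπ I (n + 1) E ≫ ψ.app (op n)
  have hy : ∀ n, y (n + 1) ≫ Formal.modPowTrans I (n + 1) E' = y n := fun n => by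
    have e : Formal.modPowTrans I (n + 1) E' = Formal2.modPowLE I (Nat.succ_le_succ (Nat.le_succ n)) E' := by
      rw [← cancel_epi (Formal.modPowπ I (n + 1 + 1) E'), Formal.modPowπ_trans]
      exact (Formal2.modPowπ_modPowLE I (Nat.succ_le_succ (Nat.le_succ n)) E').symm
    rw [e]
    exact completion_π_trans ψ (Nat.le_succ n)
  let c : ∀ n, Formal.modPow I (n + 1) (homMod E E') ⟶ homMod E (Formal.modPow I (n + 1) E') := fun n =>
    homCmp I (n + 1) E E'
  have hinj : ∀ n, Function.Injective ((c n).app ⊤) := fun n => by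
    haveI := isIso_homCmp I (n + 1) hE hE'
    exact app_injective_of_mono (c n) ⊤
  have hsurj : ∀ n, ∃ σ, (c n).app ⊤ σ = (HomOn.ofHom (y n) ⊤).toSec := fun n => by
    haveI := isIso_homCmp I (n + 1) hE hE'
    refine ⟨(inv (c n)).app ⊤ (HomOn.ofHom (y n) ⊤).toSec, ?_⟩
    exact congrArg (fun φ => (Scheme.Modules.Hom.app φ ⊤) (HomOn.ofHom (y n) ⊤).toSec) (IsIso.inv_hom_id (c n))
  choose σ hσ using hsurj
  have hcomm : ∀ n, Formal.modPowTrans I (n + 1) (homMod E E') ≫ c n =
      c (n + 1) ≫ homMap E (Formal.modPowTrans I (n + 1) E') := fun n => by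
    rw [← cancel_epi (Formal.modPowπ I (n + 1 + 1) (homMod E E')), ← Category.assoc, ← Category.assoc,
      Formal.modPowπ_trans, π_homCmp, π_homCmp, ← homMap_comp', Formal.modPowπ_trans]
  obtain ⟨s, hs, huniq⟩ := existsUnique_section h σ fun n => hinj n (by
    change (Formal.modPowTrans I (n + 1) (homMod E E') ≫ c n).app ⊤ (σ (n + 1)) = _
    rw [hcomm]
    change (homMap E _).app ⊤ ((c (n + 1)).app ⊤ (σ (n + 1))) = _
    rw [hσ, hσ, ← hy n]
    exact HomOn.ext' fun W hW z => rfl)
  have hiff : ∀ (τ : Γ(homMod E E', (⊤ : X.Opens))) n,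
      (Formal.modPowπ I (n + 1) (homMod E E')).app ⊤ τ = σ n ↔
        (homMap E (Formal.modPowπ I (n + 1) E')).app ⊤ τ = (HomOn.ofHom (y n) ⊤).toSec := fun τ n => by
    rw [← π_homCmp, ← hσ n]
    exact ⟨fun e => congrArg ((c n).app ⊤) e, fun e => hinj n e⟩
  refine ⟨(ofSec s).toHom, fun n => ?_, fun φ hφ => ?_⟩
  · refine Scheme.Modules.hom_ext _ _ fun W => ?_
    ext z
    exact (congrArg (fun σ : Γ(homMod E (Formal.modPow I (n + 1) E'), (⊤ : X.Opens)) =>
      (ofSec σ).app W le_top z) ((hiff s n).mp (hs n))).symm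
  · have hτ : (HomOn.ofHom φ ⊤).toSec = s := huniq _ fun n => (hiff _ n).mpr (HomOn.ext' fun W hW z =>
      (congrArg (fun ψ => (Scheme.Modules.Hom.app ψ W) z) (hφ n)).symm)
    rw [← hτ]
    exact Scheme.Modules.hom_ext _ _ fun W => rfl

end Groth.Agent.Formal27
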