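import Groth.Prelude.Def_Formal2
import Mathlib.CategoryTheory.Abelian.Refinements

/-!
Multiplication by scalars on `O_X`-modules: calculus, and quotients by powers of a principal ideal.
-/

set_option autoImplicit false

universe u

open CategoryTheory CategoryTheory.Limits AlgebraicGeometry Opposite

namespace Groth.Agent.Formal27

variable {A : Type u} [CommRing A] {X : Scheme.{u}} [X.Over (Spec (CommRingCat.of A))]

theorem smulMod_mul (M : X.Modules) (a b : A) :
    Formal.smulMod A M (a * b) = Formal.smulMod A M b ≫ Formal.smulMod A M a := by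
  apply (SheafOfModules.toSheaf _).map_injective
  refine Eq.trans ?_ ((SheafOfModules.toSheaf _).map_comp _ _).symm
  change Coh.smulAb M (Coh.toGlobal (X ↘ Spec (CommRingCat.of A)) (a * b)) = _
  rw [map_mul, Coh.smulAb_mul]
  rfl

theorem smulMod_add (M : X.Modules) (a b : A) :
    Formal.smulMod A M (a + b) = Formal.smulMod A M a + Formal.smulMod A M b := by
  apply (SheafOfModules.toSheaf _).map_injective
  change Coh.smulAb M (Coh.toGlobal (X ↘ Spec (CommRingCat.of A)) (a + b)) = _
  rw [map_add, Coh.smulAb_add]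
  rfl

theorem smulMod_one (M : X.Modules) : Formal.smulMod A M (1 : A) = 𝟙 M := by
  apply (SheafOfModules.toSheaf _).map_injective
  change Coh.smulAb M (Coh.toGlobal (X ↘ Spec (CommRingCat.of A)) (1 : A)) = _
  rw [map_one, Coh.smulAb_one]
  rfl

theorem smulMod_zero (M : X.Modules) : Formal.smulMod A M (0 : A) = 0 := by
  apply (SheafOfModules.toSheaf _).map_injective
  change Coh.smulAb M (Coh.toGlobal (X ↘ Spec (CommRingCat.of A)) (0 : A)) = _
  rw [map_zero, Coh.smulAb_zero]
  rfl

/-- Multiplication by a scalar is natural. -/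
@[reassoc]
theorem smulMod_comp {M N : X.Modules} (φ : M ⟶ N) (a : A) :
    φ ≫ Formal.smulMod A N a = Formal.smulMod A M a ≫ φ := by
  ext U m
  exact (Scheme.Modules.Hom.app_smul φ _ m).symm

theorem smulFamily_comp_eq_zero {M N : X.Modules} {J : Ideal A} (φ : M ⟶ N)
    (h : ∀ a ∈ J, Formal.smulMod A M a ≫ φ = 0) : Formal.smulFamily J M ≫ φ = 0 :=
  Sigma.hom_ext _ _ fun a => by
    rw [Formal.smulFamily, Sigma.ι_desc_assoc, comp_zero]
    exact h a a.2

theorem smulMod_modPowπ (I : Ideal A) (n : ℕ) (M : X.Modules) {a : A} (ha : a ∈ I ^ n) :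
    Formal.smulMod A M a ≫ Formal.modPowπ I n M = 0 := by
  rw [show Formal.smulMod A M a = Sigma.ι (fun _ : ↥(I ^ n) => M) ⟨a, ha⟩ ≫ Formal.smulFamily (I ^ n) M
    by simp [Formal.smulFamily], Category.assoc]
  exact (congrArg _ (cokernel.condition _)).trans comp_zero

instance (I : Ideal A) (n : ℕ) (M : X.Modules) : Epi (Formal.modPowπ I n M) :=
  inferInstanceAs (Epi (cokernel.π _))

variable (f : A) (M : X.Modules)

theorem smulMod_pow_modPowπ (n : ℕ) :
    Formal.smulMod A M (f ^ n) ≫ Formal.modPowπ (Ideal.span {f}) n M = 0 :=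
  smulMod_modPowπ _ n M (Ideal.pow_mem_pow (Ideal.mem_span_singleton_self f) n)

/-- `M/(f)^n M` is the cokernel of multiplication by `f^n`. -/
noncomputable def isColimitModPow (n : ℕ) :
    IsColimit (CokernelCofork.ofπ (Formal.modPowπ (Ideal.span {f}) n M) (smulMod_pow_modPowπ f M n)) :=
  CokernelCofork.IsColimit.ofπ _ _
    (fun {Z} g hg => cokernel.desc _ g (smulFamily_comp_eq_zero g fun a ha => by
      rw [Ideal.span_singleton_pow] at ha
      obtain ⟨c, rfl⟩ := Ideal.mem_span_singleton'.mp ha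
      rw [mul_comm, smulMod_mul, Category.assoc, hg, comp_zero]))
    (fun {Z} g hg => cokernel.π_desc _ _ _)
    (fun {Z} g hg m hm => by
      rw [← cancel_epi (Formal.modPowπ (Ideal.span {f}) n M), hm]
      exact (cokernel.π_desc _ _ _).symm)

/-- The complex `M → M → M/(f)^n M` is exact. -/
theorem exact_modPow (n : ℕ) :
    (ShortComplex.mk _ _ (smulMod_pow_modPowπ f M n)).Exact :=
  ShortComplex.exact_of_g_is_cokernel _ (isColimitModPow f M n)

/-- The map `M/fM → M/f^(n+1)M` given by `f^n`. -/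
noncomputable def mulPowMap (n : ℕ) :
    Formal.modPow (Ideal.span {f}) 1 M ⟶ Formal.modPow (Ideal.span {f}) (n + 1) M :=
  cokernel.desc _ (Formal.smulMod A M (f ^ n) ≫ Formal.modPowπ _ (n + 1) M)
    (smulFamily_comp_eq_zero _ fun a ha => by
      rw [← Category.assoc, ← smulMod_mul]
      refine smulMod_modPowπ _ _ _ ?_
      rw [pow_one] at ha
      rw [pow_succ]
      exact Ideal.mul_mem_mul (Ideal.pow_mem_pow (Ideal.mem_span_singleton_self f) n) ha)

@[reassoc (attr := simp)]
theorem π_mulPowMap (n : ℕ) :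
    Formal.modPowπ (Ideal.span {f}) 1 M ≫ mulPowMap f M n =
      Formal.smulMod A M (f ^ n) ≫ Formal.modPowπ _ (n + 1) M := cokernel.π_desc _ _ _

end Groth.Agent.Formal27
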