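import Groth.Agent.Formal27.LimAcyclic
import Groth.Agent.Formal27.Torsion

/-!
For a tower `G` of quasi-coherent modules with `G (n+1) / I^(n+1) = G n` the limit modulo `I^(n+1)` is `G n`.
-/

set_option autoImplicit false

universe u

open CategoryTheory CategoryTheory.Limits AlgebraicGeometry Opposite TopologicalSpace

noncomputable section

namespace Groth.Agent.Formal27

variable {A : Type u} [CommRing A] {X : Scheme.{u}} [X.Over (Spec (CommRingCat.of A))]
variable {I : Ideal A} {G : ℕᵒᵖ ⥤ X.Modules}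
variable (hG : Formal2.IsQCohFormal I G)

include hG in
theorem epi_tr (k : ℕ) : Epi (tr G k) := by
  obtain ⟨h, hiso⟩ := hG.2.2 k
  rw [show tr G k = cokernel.π _ ≫ cokernel.desc _ _ h from (cokernel.π_desc _ _ _).symm]
  infer_instance

include hG in
theorem exists_factor_tr {n m : ℕ} (h : n ≤ m) {Z : X.Modules} (g : G.obj (op m) ⟶ Z)
    (hg : ∀ a ∈ I ^ (n + 1), Formal.smulMod A _ a ≫ g = 0) : ∃ v, sysMap G h ≫ v = g := by
  induction m, h using Nat.le_induction with
  | base => exact ⟨g, by rw [sysMap_self, Category.id_comp]⟩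
  | succ m h ih =>
    obtain ⟨hz, hiso⟩ := hG.2.2 m
    have hg' : Formal.smulFamily (I ^ (m + 1)) (G.obj (op (m + 1))) ≫ g = 0 :=
      smulFamily_comp_eq_zero _ fun a ha => hg a (Ideal.pow_le_pow_right (by omega) ha)
    let g' := inv (cokernel.desc _ _ hz) ≫ cokernel.desc _ _ hg'
    have hfac : sysMap G (Nat.le_succ m) ≫ g' = g := by
      rw [show sysMap G (Nat.le_succ m) = cokernel.π _ ≫ cokernel.desc _ _ hz from (cokernel.π_desc _ _ _).symm,
        Category.assoc, IsIso.hom_inv_id_assoc, cokernel.π_desc]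
    haveI : Epi (sysMap G (Nat.le_succ m)) := epi_tr hG m
    obtain ⟨v, hv⟩ := ih g' fun a ha => by
      rw [← cancel_epi (sysMap G (Nat.le_succ m)), comp_zero, ← Category.assoc, smulMod_comp, Category.assoc,
        hfac]
      exact hg a ha
    exact ⟨v, by rw [← sysMap_comp G h (Nat.le_succ m), Category.assoc, hv, hfac]⟩

include hG in
/-- The kernel of `G m → G n` on affine sections. -/
theorem sysMap_app_eq_zero {n m : ℕ} (h : n ≤ m) {V : X.Opens} (hV : IsAffineOpen V) {x : Γ(G.obj (op m), V)}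
    (hx : (sysMap G h).app V x = 0) : x ∈ IM (G.obj (op m)) (I ^ (n + 1)) V := by
  obtain ⟨v, hv⟩ := exists_factor_tr hG h (Formal.modPowπ I (n + 1) (G.obj (op m)))
    fun a ha => smulMod_modPowπ I (n + 1) _ ha
  haveI := hG.1 m
  refine (modPowπ_app_eq_zero_iff hV x).mp ?_
  rw [← hv]
  change v.app V ((sysMap G h).app V x) = 0
  rw [hx]
  exact map_zero _

omit [X.Over (Spec (CommRingCat.of A))] in
theorem app_sum {M N : X.Modules} (φ : M ⟶ N) {V : X.Opens} {ι : Type*} (s : Finset ι) (f : ι → Γ(M, V)) :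
    φ.app V (∑ i ∈ s, f i) = ∑ i ∈ s, φ.app V (f i) := map_sum _ _ _

include hG in
theorem sysMap_app_IM {n m c : ℕ} (h : n ≤ m) (hc : n + 1 ≤ c) {V : X.Opens} {x : Γ(G.obj (op m), V)}
    (hx : x ∈ IM (G.obj (op m)) (I ^ c) V) : (sysMap G h).app V x = 0 := by
  refine IM_induction (p := fun x => (sysMap G h).app V x = 0) hx (fun a ha y => ?_) (map_zero _)
    fun x y hx hy => by rw [map_add, hx, hy, add_zero]
  rw [Scheme.Modules.Hom.app_smul]
  have := congrArg (fun φ => (Scheme.Modules.Hom.app φ V) ((sysMap G h).app V y))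
    (hG.2.1 n a (Ideal.pow_le_pow_right hc ha))
  exact this

/-- Elements of `J Γ(M, V)` in terms of generators of `J`. -/
theorem exists_sum_eq {M : X.Modules} {V : X.Opens} {r : ℕ} {a : Fin r → A} {x : Γ(M, V)}
    (hx : x ∈ IM M (Ideal.span (Set.range a)) V) :
    ∃ z : Fin r → Γ(M, V), ∑ j, gi A X V (a j) • z j = x := by
  refine IM_induction (p := fun x => ∃ z : Fin r → Γ(M, V), ∑ j, gi A X V (a j) • z j = x) hx
    (fun b hb m => ?_) ⟨0, by simp⟩ ?_
  · obtain ⟨c, rfl⟩ := Ideal.mem_span_range_iff_exists_fun.mp hb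
    refine ⟨fun j => gi A X V (c j) • m, ?_⟩
    rw [map_sum, Finset.sum_smul]
    exact Finset.sum_congr rfl fun j _ => by rw [map_mul, smul_smul, mul_comm]
  · rintro _ _ ⟨z, rfl⟩ ⟨z', rfl⟩
    exact ⟨z + z', by simp [smul_add, Finset.sum_add_distrib]⟩

include hG in
/-- A compatible family vanishing at level `n` is a combination of generators of `I^(n+1)`. -/
theorem mem_IM_limit (hI : I.FG) {n : ℕ} {V : X.Opens} (hV : IsAffineOpen V) {s : Γ(limit G, V)}
    (hs : (limit.π G (op n)).app V s = 0) : s ∈ IM (limit G) (I ^ (n + 1)) V := by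
  obtain ⟨r, a, ha⟩ := (Submodule.fg_iff_exists_fin_generating_family).mp (Submodule.FG.pow hI (n + 1))
  let x : ∀ m, Γ(G.obj (op m), V) := fun m => (limit.π G (op m)).app V s
  have hx : ∀ {l m : ℕ} (h : l ≤ m), (sysMap G h).app V (x m) = x l := fun {l m} h => by
    change (limit.π G (op m) ≫ sysMap G h).app V s = _
    rw [limit.w]
  have hsurj : ∀ m, Function.Surjective ((tr G m).app V) := fun m =>
    tr_app_surjective G hG.1 (epi_tr hG) m hV
  -- successive approximations
  have hbase : ∃ z : Fin r → Γ(G.obj (op (n + 1)), V),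
      ∑ j, gi A X V (a j) • z j = x (n + 1) := by
    refine exists_sum_eq ?_
    rw [show Ideal.span (Set.range a) = I ^ (n + 1) from ha]
    exact sysMap_app_eq_zero hG (Nat.le_succ n) hV ((hx (Nat.le_succ n)).trans hs)
  have hstep : ∀ k (z : {z : Fin r → Γ(G.obj (op (n + 1 + k)), V) //
      ∑ j, gi A X V (a j) • z j = x (n + 1 + k)}),
      ∃ z' : {z : Fin r → Γ(G.obj (op (n + 1 + (k + 1))), V) //
        ∑ j, gi A X V (a j) • z j = x (n + 1 + (k + 1))},
        ∀ j, (tr G (n + 1 + k)).app V (z'.1 j) - z.1 j ∈ IM (G.obj (op (n + 1 + k))) (I ^ (k + 1)) V := by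
    intro k z
    choose w hw using fun j => hsurj (n + 1 + k) (z.1 j)
    have hd : (x (n + 1 + k + 1) - ∑ j, gi A X V (a j) • w j) ∈
        IM (G.obj (op (n + 1 + k + 1))) (I ^ (n + 1 + k + 1)) V := by
      refine sysMap_app_eq_zero hG (Nat.le_succ (n + 1 + k)) hV ?_
      rw [map_sub, hx, app_sum, sub_eq_zero, ← z.2]
      exact Finset.sum_congr rfl fun j _ => by rw [Scheme.Modules.Hom.app_smul, hw]
    obtain ⟨u, hu, hue⟩ : ∃ u : Fin r → Γ(G.obj (op (n + 1 + k + 1)), V),
        (∀ j, u j ∈ IM _ (I ^ (k + 1)) V) ∧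
          ∑ j, gi A X V (a j) • u j = x (n + 1 + k + 1) - ∑ j, gi A X V (a j) • w j := by
      refine IM_induction (p := fun d => ∃ u : Fin r → Γ(G.obj (op (n + 1 + k + 1)), V),
        (∀ j, u j ∈ IM _ (I ^ (k + 1)) V) ∧ ∑ j, gi A X V (a j) • u j = d) hd
        (fun b hb m => ?_) ⟨0, fun j => zero_mem _, by simp⟩ ?_
      · rw [show n + 1 + k + 1 = (n + 1) + (k + 1) by omega, pow_add] at hb
        refine Submodule.mul_induction_on hb (fun b hb e he => ?_) ?_
        · rw [← ha] at hb
          obtain ⟨c, rfl⟩ := Ideal.mem_span_range_iff_exists_fun.mp hb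
          refine ⟨fun j => gi A X V (c j) • gi A X V e • m,
            fun j => Submodule.smul_mem _ _ (smul_mem_IM he m), ?_⟩
          simp only [map_mul, map_sum, Finset.sum_mul, Finset.sum_smul, smul_smul]
          exact Finset.sum_congr rfl fun j _ => by congr 1; ring
        · rintro b b' ⟨u, hu, hue⟩ ⟨u', hu', hue'⟩
          exact ⟨u + u', fun j => add_mem (hu j) (hu' j), by
            simp [smul_add, Finset.sum_add_distrib, hue, hue', add_smul]⟩
      · rintro _ _ ⟨u, hu, rfl⟩ ⟨u', hu', rfl⟩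
        exact ⟨u + u', fun j => add_mem (hu j) (hu' j), by simp [smul_add, Finset.sum_add_distrib]⟩
    refine ⟨⟨w + u, ?_⟩, fun j => ?_⟩
    · change ∑ j, gi A X V (a j) • (w j + u j) = x (n + 1 + k + 1)
      simp only [smul_add, Finset.sum_add_distrib, hue, add_sub_cancel]
    · change (tr G (n + 1 + k)).app V (w j + u j) - z.1 j ∈ _
      rw [map_add, hw, add_sub_cancel_left]
      refine IM_induction (p := fun y => (tr G (n + 1 + k)).app V y ∈ IM _ (I ^ (k + 1)) V) (hu j)
        (fun b hb m => ?_) (by rw [map_zero]; exact zero_mem _)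
        fun p q hp hq => by rw [map_add]; exact add_mem hp hq
      rw [Scheme.Modules.Hom.app_smul]
      exact smul_mem_IM hb _
  choose step hstep using hstep
  obtain ⟨z₀, hz₀⟩ := hbase
  let z : ∀ k, {z : Fin r → Γ(G.obj (op (n + 1 + k)), V) //
      ∑ j, gi A X V (a j) • z j = x (n + 1 + k)} := fun k =>
    Nat.rec (motive := fun k => {z : Fin r → Γ(G.obj (op (n + 1 + k)), V) //
      ∑ j, gi A X V (a j) • z j = x (n + 1 + k)}) ⟨z₀, hz₀⟩ (fun k p => step k p) k
  have hlim : ∀ j, ∃ t : Γ(limit G, V), ∀ k : ℕ, (limit.π G (op k)).app V t =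
      (sysMap G (Nat.le_add_left k (n + 1))).app V ((z k).1 j) := fun j => exists_lim G _ fun k => by
    have hc : sysMap G (Nat.le_add_left (k + 1) (n + 1)) ≫ tr G k =
        tr G (n + 1 + k) ≫ sysMap G (Nat.le_add_left k (n + 1)) := by
      rw [sysMap, sysMap, tr, tr, ← G.map_comp, ← G.map_comp]
      rfl
    refine (congrArg (fun φ => (Scheme.Modules.Hom.app φ V) ((z (k + 1)).1 j)) hc).trans ?_
    change (sysMap G _).app V ((tr G (n + 1 + k)).app V ((step k (z k)).1 j)) = _
    rw [← sub_eq_zero, ← map_sub]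
    exact sysMap_app_IM hG _ le_rfl (hstep k (z k) j)
  choose t ht using hlim
  have hst : s = ∑ j, gi A X V (a j) • t j := lim_ext G fun k => by
    rw [app_sum]
    simp only [Scheme.Modules.Hom.app_smul, ht]
    change x k = _
    refine (hx (Nat.le_add_left k (n + 1))).symm.trans ((congrArg _ (z k).2.symm).trans ?_)
    rw [app_sum]
    simp only [Scheme.Modules.Hom.app_smul]
  rw [hst]
  exact Submodule.sum_mem _ fun j _ => smul_mem_IM (ha ▸ Submodule.subset_span (Set.mem_range_self j)) _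

include hG in
/-- The projection kills `I^(n+1)` and identifies `G n` with the quotient of the limit. -/
theorem exists_isIso_limit_desc (hI : I.FG) (n : ℕ) :
    ∃ h : Formal.smulFamily (I ^ (n + 1)) (limit G) ≫ limit.π G (op n) = 0,
      IsIso (cokernel.desc _ _ h) := by
  have h0 : ∀ a ∈ I ^ (n + 1), Formal.smulMod A (limit G) a ≫ limit.π G (op n) = 0 := fun a ha => by
    rw [← smulMod_comp, hG.2.1 n a ha, comp_zero]
  have h := smulFamily_comp_eq_zero _ h0
  haveI hepi : Epi (limit.π G (op n)) := QC70.epi_of_locally_surjective _ fun U s p hp => by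
    obtain ⟨V, hV, hpV, hVU⟩ := X.isBasis_affineOpens.exists_subset_of_mem_open hp U.isOpen
    obtain ⟨V, hV', rfl⟩ := hV
    obtain ⟨t, ht⟩ := π_app_surjective G hG.1 (epi_tr hG) n hV' (QC70.res _ hVU s)
    exact ⟨V, hVU, t, hpV, ht⟩
  let e := cokernel.desc _ _ h
  have hπ : Formal.modPowπ I (n + 1) (limit G) ≫ e = limit.π G (op n) := cokernel.π_desc _ _ _
  haveI : Epi e := epi_of_epi_fac hπ
  haveI : Mono e := QC70.mono_of_app_injective (e : Formal.modPow I (n + 1) (limit G) ⟶ _) fun U =>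
    (injective_iff_map_eq_zero _).2 fun y hy => by
      refine QC70.section_ext _ _ _ fun p hp => ?_
      obtain ⟨W, hWU, s, hpW, hs⟩ := QC70.exists_local_lift (Formal.modPowπ I (n + 1) (limit G)) y hp
      obtain ⟨V, hV, hpV, hVW⟩ := X.isBasis_affineOpens.exists_subset_of_mem_open hpW W.isOpen
      obtain ⟨V, hV', rfl⟩ := hV
      have hVW' : V ≤ W := hVW
      have hs' : (Formal.modPowπ I (n + 1) (limit G)).app V (QC70.res _ hVW' s) =
          QC70.res _ (hVW'.trans hWU) y := by
        rw [QC70.app_res, hs, QC70.res_res]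
        rfl
      refine ⟨V, hVW'.trans hWU, hpV, ?_⟩
      rw [QC70.res_zero, ← hs']
      refine modPowπ_app_eq_zero_of_mem (mem_IM_limit hG hI hV' ?_)
      rw [← hπ]
      change e.app V ((Formal.modPowπ I (n + 1) (limit G)).app V (QC70.res _ hVW' s)) = 0
      rw [hs', QC70.app_res, hy, QC70.res_zero]
  exact ⟨h, isIso_of_mono_of_epi e⟩

end Groth.Agent.Formal27
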